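import Mathlib
import Cfsg.Agent.Lib.SymSylow.Over

/-!
# When a Sylow 2-subgroup of a symmetric or alternating group lies in a unique maximal subgroup
-/

set_option autoImplicit false
set_option linter.unusedSectionVars false

namespace H61

open MulAction Equiv Equiv.Perm
open scoped Pointwise

variable {α : Type*} [Fintype α] [DecidableEq α]

theorem eq_alt_or_top {G : Subgroup (Perm α)} (hG : alternatingGroup α ≤ G) :
    G = alternatingGroup α ∨ G = ⊤ := by
  rcases subsingleton_or_nontrivial α with hα | hα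
  · right
    ext σ
    simp [Subsingleton.elim σ 1]
  have h1 : G.index ∣ 2 := by
    rw [← alternatingGroup.index_eq_two (α := α)]
    exact Subgroup.index_dvd_of_le hG
  rcases (Nat.dvd_prime Nat.prime_two).1 h1 with h | h
  · exact Or.inr (Subgroup.index_eq_one.1 h)
  · exact Or.inl (eq_alternatingGroup_of_index_eq_two h)

theorem swap_smul_set {S : Set α} {u v : α} (h : u ∈ S ↔ v ∈ S) : swap u v • S = S := by
  apply smul_set_eq_of_maps
  intro x hx
  rw [swap_apply_def]
  split_ifs with h1 h2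
  · exact h.1 (h1 ▸ hx)
  · exact h.2 (h2 ▸ hx)
  · exact hx

theorem mul_mem_alt_of_not_mem {σ τ : Perm α} (h1 : σ ∉ alternatingGroup α)
    (h2 : τ ∉ alternatingGroup α) : σ * τ ∈ alternatingGroup α := by
  rw [mem_alternatingGroup] at *
  rcases Int.units_eq_one_or (sign σ) with h | h
  · exact absurd h h1
  rcases Int.units_eq_one_or (sign τ) with h' | h'
  · exact absurd h' h2
  simp [h, h']

theorem swap_not_mem_alt {u v : α} (h : u ≠ v) : swap u v ∉ alternatingGroup α := by
  simp [mem_alternatingGroup, sign_swap h]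

/-- Distinct orbits of a Sylow 2-subgroup of a group containing the alternating group of degree
at least 4 have distinct lengths. -/
theorem SylIn.orbit_eq_of_ncard_eq_alt {G R : Subgroup (Perm α)} (hG : alternatingGroup α ≤ G)
    (h : SylIn 2 R G) (h4 : 4 ≤ Fintype.card α) {a b : α}
    (hc : (orbit R a).ncard = (orbit R b).ncard) : orbit R a = orbit R b := by
  by_contra hne
  have hd := disjoint_orbit_of_ne hne
  obtain ⟨s, -, h1, h2⟩ := exists_swap_sets hd hc
  have hA := fun g (hg : g ∈ R) => smul_orbit_of_mem hg a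
  have hB := fun g (hg : g ∈ R) => smul_orbit_of_mem hg b
  by_cases hs : s ∈ alternatingGroup α
  · exact h.not_swap hne hA hB (hG hs) h1 h2
  have : ∃ u v : α, u ≠ v ∧ (u ∈ orbit R a ↔ v ∈ orbit R a) ∧ (u ∈ orbit R b ↔ v ∈ orbit R b) := by
    by_cases h1 : 1 < (orbit R a).ncard
    · obtain ⟨u, v, hu, hv, huv⟩ := (Set.one_lt_ncard_iff (Set.toFinite _)).1 h1
      exact ⟨u, v, huv, by simp [hu, hv],
        by simp [Set.disjoint_left.1 hd hu, Set.disjoint_left.1 hd hv]⟩
    · have e1 : ∀ x ∈ orbit R a, x = a := fun x hx =>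
        (Set.ncard_le_one (Set.toFinite _)).1 (by omega) x hx a (mem_orbit_self a)
      have e2 : ∀ x ∈ orbit R b, x = b := fun x hx =>
        (Set.ncard_le_one (Set.toFinite _)).1 (by omega) x hx b (mem_orbit_self b)
      obtain ⟨u, hu⟩ := exists_not_mem_list [a, b] (by simp; omega)
      obtain ⟨v, hv⟩ := exists_not_mem_list [a, b, u] (by simp; omega)
      simp only [List.mem_cons, List.not_mem_nil, or_false, not_or] at hu hv
      exact ⟨u, v, Ne.symm hv.2.2, ⟨fun h => absurd (e1 u h) hu.1, fun h => absurd (e1 v h) hv.1⟩,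
        ⟨fun h => absurd (e2 u h) hu.2, fun h => absurd (e2 v h) hv.2.1⟩⟩
  obtain ⟨u, v, huv, hu, hv⟩ := this
  refine h.not_swap hne hA hB (hG (mul_mem_alt_of_not_mem hs (swap_not_mem_alt huv))) ?_ ?_
  · rw [mul_smul, swap_smul_set hu, h1]
  · rw [mul_smul, swap_smul_set hv, h2]

theorem le_stabilizer_of_lt {G M : Subgroup (Perm α)} (hG : alternatingGroup α ≤ G) {s : Set α}
    (h0 : s.Nonempty) (h1 : sᶜ.Nonempty) (hs : Nat.card α ≠ 2 * s.ncard)
    (hM : G ⊓ stabilizer (Perm α) s ≤ M) (hMG : M < G) : M ≤ stabilizer (Perm α) s := by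
  rcases eq_alt_or_top hG with rfl | rfl
  · have hc := alternatingGroup.isCoatom_stabilizer h0 h1 hs
    have h2 : stabilizer (alternatingGroup α) s ≤ M.subgroupOf (alternatingGroup α) :=
      fun g hg => hM ⟨g.2, hg⟩
    rcases h2.eq_or_lt with h3 | h3
    · intro g hg
      have : (⟨g, hMG.le hg⟩ : alternatingGroup α) ∈ stabilizer (alternatingGroup α) s := by
        rw [h3]; exact hg
      exact this
    · exact absurd (Subgroup.subgroupOf_eq_top.1 (hc.2 _ h3)) hMG.not_ge
  · have hc := Perm.isCoatom_stabilizer h0 h1 hs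
    rw [top_inf_eq] at hM
    rcases hM.eq_or_lt with h3 | h3
    · exact h3.ge
    · exact absurd (hc.2 _ h3) hMG.ne

theorem inf_stabilizer_lt {G : Subgroup (Perm α)} (hG : alternatingGroup α ≤ G)
    (h3 : 3 ≤ Fintype.card α) {s : Set α} (h0 : s.Nonempty) (h1 : sᶜ.Nonempty) :
    G ⊓ stabilizer (Perm α) s < G := by
  refine lt_of_le_of_ne inf_le_left fun h => ?_
  obtain ⟨a, ha⟩ := h0
  obtain ⟨b, hb⟩ := h1
  have : b ∈ orbit G a := by rw [orbit_eq_univ_of_alt_le hG h3]; trivial
  obtain ⟨g, hg, rfl⟩ := mem_orbit_subgroup.1 this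
  rw [← h] at hg
  have h2 : g • s = s := hg.2
  exact hb (h2 ▸ Set.smul_mem_smul_set ha)

/-- In even degree a 2-group of permutations centralizes a fixed-point-free involution. -/
theorem exists_fpf_involution {R : Subgroup (Perm α)} (hR : IsPGroup 2 R)
    (hn : Even (Fintype.card α)) :
    ∃ τ : Perm α, (∀ a, τ (τ a) = a) ∧ (∀ a, τ a ≠ a) ∧ ∀ g ∈ R, ∀ a, τ (g a) = g (τ a) := by
  obtain ⟨P, hP, hle⟩ := SylIn.exists_le (K := ⊤) hR le_top
  have hex : ∀ a, ∃ b, a ≠ b ∧ swap a b ∈ P := by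
    intro a
    by_contra hcon
    push Not at hcon
    have h1 := fun g (hg : g ∈ P) =>
      SylIn.apply_eq_of_unpaired (S := Set.univ) (symOn_univ ▸ hP) hcon hg
    apply hP.not_dvd_ncard_orbit (a := a) h1
    have : orbit (⊤ : Subgroup (Perm α)) a = Set.univ := by
      rw [← symOn_univ, orbit_symOn (Set.mem_univ a)]
    rw [this, Set.ncard_univ, Nat.card_eq_fintype_card]
    exact hn.two_dvd
  choose f hf1 hf2 using hex
  have hinv : Function.Involutive f := fun a =>
    swap_unique hP.pgrp (hf1 (f a)) (hf1 a).symm (hf2 (f a)) (by rw [swap_comm]; exact hf2 a)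
  refine ⟨hinv.toPerm f, hinv, fun a => (hf1 a).symm, fun g hg a => ?_⟩
  exact swap_unique hP.pgrp (hf1 (g a)) (g.injective.ne (hf1 a)) (hf2 _)
    (swap_conj_mem (hle hg) (hf2 a))

section fpf

variable {τ : Perm α} (h1 : ∀ a, τ (τ a) = a) (h2 : ∀ a, τ a ≠ a)
include h1 h2

theorem commute_swap_self (a : α) : Commute τ (swap a (τ a)) := by
  have : τ * swap a (τ a) * τ⁻¹ = swap a (τ a) := by rw [← swap_apply_apply, h1, swap_comm]
  exact mul_inv_eq_iff_eq_mul.1 this

theorem commute_swap_pair {a b : α} (hab : a ≠ b) (hab' : b ≠ τ a) :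
    Commute τ (swap a b * swap (τ a) (τ b)) := by
  have hc : Commute (swap a b) (swap (τ a) (τ b)) :=
    commute_swap_swap (h2 a).symm (fun h => hab' (by rw [h, h1])) hab' (h2 b).symm
  have : τ * (swap a b * swap (τ a) (τ b)) * τ⁻¹ = swap a b * swap (τ a) (τ b) := by
    have e : τ * (swap a b * swap (τ a) (τ b)) * τ⁻¹ =
      (τ * swap a b * τ⁻¹) * (τ * swap (τ a) (τ b) * τ⁻¹) := by group
    rw [e, ← swap_apply_apply, ← swap_apply_apply, h1, h1, hc.eq]
  exact mul_inv_eq_iff_eq_mul.1 this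

theorem centralizer_fpf_trans (h4 : 3 ≤ Fintype.card α) (a b : α) :
    ∃ g ∈ alternatingGroup α, Commute τ g ∧ g a = b := by
  by_cases hab : a = b
  · exact ⟨1, Subgroup.one_mem _, Commute.one_right _, hab⟩
  by_cases hb : b = τ a
  · obtain ⟨c, hc⟩ := exists_not_mem_list [a, τ a] (by simp; omega)
    simp only [List.mem_cons, List.not_mem_nil, or_false, not_or] at hc
    refine ⟨swap a (τ a) * swap c (τ c), swap_mul_swap_mem_alt (h2 a).symm (h2 c).symm,
      (commute_swap_self h1 h2 a).mul_right (commute_swap_self h1 h2 c), ?_⟩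
    have : a ≠ τ c := fun h => hc.2 (by rw [h, h1])
    simp [swap_apply_of_ne_of_ne (Ne.symm hc.1) this, hb]
  · refine ⟨swap a b * swap (τ a) (τ b), swap_mul_swap_mem_alt hab (τ.injective.ne hab),
      commute_swap_pair h1 h2 hab hb, ?_⟩
    have : a ≠ τ b := fun h => hb (by rw [h, h1])
    simp [swap_apply_of_ne_of_ne (h2 a).symm this]

theorem inf_centralizer_fpf_lt {G : Subgroup (Perm α)} (hG : alternatingGroup α ≤ G)
    (h4 : 3 ≤ Fintype.card α) : G ⊓ Subgroup.centralizer {τ} < G := by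
  refine lt_of_le_of_ne inf_le_left fun h => ?_
  obtain ⟨a, -⟩ := exists_not_mem_list ([] : List α) (by simp; omega)
  obtain ⟨b, hb⟩ := exists_not_mem_list [a, τ a] (by simp; omega)
  simp only [List.mem_cons, List.not_mem_nil, or_false, not_or] at hb
  have h3 : swap a (τ a) * swap a b ∈ G := hG (swap_mul_swap_mem_alt (h2 a).symm (Ne.symm hb.1))
  rw [← h] at h3
  have h5 := congrArg (fun σ : Perm α => σ b) (Subgroup.mem_centralizer_iff.1 h3.2 τ rfl)
  have e1 : τ b ≠ a := fun h => hb.2 (by rw [← h, h1])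
  have e2 : τ b ≠ τ a := τ.injective.ne hb.1
  simp only [Perm.mul_apply, swap_apply_right, swap_apply_left, h1,
    swap_apply_of_ne_of_ne e1 (h2 b), swap_apply_of_ne_of_ne e1 e2] at h5
  exact e1 h5.symm

/-- A set with at least four points, not everything, is not a block for the even part of the
centralizer of a fixed-point-free involution. -/
theorem exists_break_block {D : Set α} (hD : 4 ≤ D.ncard) (hD' : Dᶜ.Nonempty) :
    ∃ g ∈ alternatingGroup α, Commute τ g ∧ (∃ a ∈ D, g a ∉ D) ∧ ∃ c ∈ D, g c = c := by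
  have hex : ∀ l : List α, l.length < 4 → ∃ c ∈ D, c ∉ l := by
    intro l hl
    by_contra hcon
    push Not at hcon
    have : D ⊆ (l.toFinset : Set α) := fun x hx => by simpa using hcon x hx
    have := Set.ncard_le_ncard this (Set.toFinite _)
    rw [Set.ncard_coe_finset] at this
    have := List.toFinset_card_le l
    omega
  by_cases hc : ∃ a ∈ D, τ a ∈ D
  · obtain ⟨a, ha, ha'⟩ := hc
    obtain ⟨b, hb⟩ := hD'
    have hab : a ≠ b := fun h => hb (h ▸ ha)
    have hab' : b ≠ τ a := fun h => hb (h ▸ ha')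
    obtain ⟨c, hc, hc'⟩ := hex [a, τ a, τ b] (by simp)
    simp only [List.mem_cons, List.not_mem_nil, or_false, not_or] at hc'
    refine ⟨swap a b * swap (τ a) (τ b), swap_mul_swap_mem_alt hab (τ.injective.ne hab),
      commute_swap_pair h1 h2 hab hab', ⟨a, ha, ?_⟩, c, hc, ?_⟩
    · have : a ≠ τ b := fun h => hab' (by rw [h, h1])
      simpa [swap_apply_of_ne_of_ne (h2 a).symm this] using hb
    · have : c ≠ b := fun h => hb (h ▸ hc)
      simp [swap_apply_of_ne_of_ne hc'.2.1 hc'.2.2, swap_apply_of_ne_of_ne hc'.1 this]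
  · push Not at hc
    obtain ⟨a, ha, -⟩ := hex [] (by simp)
    obtain ⟨b, hb, hb'⟩ := hex [a] (by simp)
    obtain ⟨c, hc1, hc'⟩ := hex [a, b] (by simp)
    simp only [List.mem_cons, List.not_mem_nil, or_false, not_or] at hb' hc'
    refine ⟨swap a (τ a) * swap b (τ b), swap_mul_swap_mem_alt (h2 a).symm (h2 b).symm,
      (commute_swap_self h1 h2 a).mul_right (commute_swap_self h1 h2 b), ⟨a, ha, ?_⟩, c, hc1, ?_⟩
    · have : a ≠ τ b := fun h => hc b hb (h ▸ ha)
      simpa [swap_apply_of_ne_of_ne (Ne.symm hb') this] using hc a ha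
    · have e1 : c ≠ τ b := fun h => hc b hb (h ▸ hc1)
      have e2 : c ≠ τ a := fun h => hc a ha (h ▸ hc1)
      simp [swap_apply_of_ne_of_ne hc'.2 e1, swap_apply_of_ne_of_ne hc'.1 e2]

end fpf

theorem exists_mem_not_mem_list {D : Set α} (l : List α) (hl : l.length < D.ncard) :
    ∃ c ∈ D, c ∉ l := by
  by_contra hcon
  push Not at hcon
  have : D ⊆ (l.toFinset : Set α) := fun x hx => by simpa using hcon x hx
  have := Set.ncard_le_ncard this (Set.toFinite _)
  rw [Set.ncard_coe_finset] at this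
  have := List.toFinset_card_le l
  omega

theorem block_absorb {M : Subgroup (Perm α)} {B D : Set α} (hB : IsBlock M B) (hD : 4 ≤ D.ncard)
    (hM : alternatingGroup α ⊓ symOn D ≤ M) {x y : α} (hx : x ∈ B) (hy : y ∈ B) (hxD : x ∈ D)
    (hxy : x ≠ y) : D ⊆ B := by
  intro z hz
  by_cases h1 : z = x
  · exact h1 ▸ hx
  by_cases h2 : z = y
  · exact h2 ▸ hy
  obtain ⟨w, hw, hw'⟩ := exists_mem_not_mem_list (D := D) [x, y, z] (by simp; omega)
  simp only [List.mem_cons, List.not_mem_nil, or_false, not_or] at hw'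
  obtain ⟨e1, e2, e3⟩ := exists_alt_map (Ne.symm h1) (Ne.symm hw'.1) (Ne.symm hw'.2.2)
  have hg : swap x z * swap z w ∈ M :=
    hM ⟨e1, Subgroup.mul_mem _ (swap_mem_symOn hxD hz) (swap_mem_symOn hz hw)⟩
  have e4 := e3 y hxy.symm (Ne.symm h2) (Ne.symm hw'.2.1)
  have : (⟨_, hg⟩ : M) • B = B := hB.smul_eq_of_mem hy (by
    change (swap x z * swap z w) y ∈ B
    rw [e4]; exact hy)
  have h5 := Set.smul_mem_smul_set (a := (⟨_, hg⟩ : M)) hx
  rw [this] at h5
  rw [← e2]
  exact h5

/-- A transitive 2-group of degree at least 2 preserves a partition into two halves. -/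
theorem exists_halving {R : Subgroup (Perm α)} (hR : IsPGroup 2 R) {a : α}
    (htr : orbit R a = Set.univ) (h2 : 2 ≤ Fintype.card α) :
    ∃ D : Set α, 2 * D.ncard = Fintype.card α ∧ ∀ g ∈ R, g • D = D ∨ g • D = Dᶜ := by
  obtain ⟨r, hr⟩ := IsPGroup.iff_card.1 hR
  obtain ⟨s, hs⟩ := IsPGroup.iff_card.1 (hR.to_subgroup (stabilizer R a))
  have hidx : (stabilizer R a).index = Fintype.card α := by
    rw [index_stabilizer, htr, Set.ncard_univ, Nat.card_eq_fintype_card]
  have hmul := (stabilizer R a).card_mul_index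
  rw [hr, hs, hidx] at hmul
  have hsr : s < r := by
    apply (Nat.pow_lt_pow_iff_right (show 1 < 2 by norm_num)).1
    rw [← hmul]
    have : 0 < 2 ^ s := by positivity
    nlinarith
  obtain ⟨K, hK, hle⟩ := Sylow.exists_subgroup_card_pow_prime_le 2 (n := s) (m := r - 1) (G := R)
    (by rw [hr]; exact pow_dvd_pow 2 (by omega)) (stabilizer R a) hs (by omega)
  have hKi : K.index = 2 := by
    have := K.card_mul_index
    rw [hK, hr, show r = r - 1 + 1 by omega, pow_succ] at this
    simp only [add_tsub_cancel_right] at this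
    exact Nat.eq_of_mul_eq_mul_left (by positivity) this
  have hKn : K.Normal := Subgroup.normal_of_index_eq_two hKi
  have hD : 2 * (orbit K a).ncard = Fintype.card α := by
    rw [← relIndex_stabilizer, ← hKi, mul_comm, Subgroup.relIndex_mul_index hle, hidx]
  refine ⟨orbit K a, hD, fun g hg => ?_⟩
  have h3 : g • orbit K a = orbit K ((⟨g, hg⟩ : R) • a) :=
    smul_orbit_of_mem_normalizer (G := R) (g := ⟨g, hg⟩) (by
      rw [Subgroup.normalizer_eq_top]; trivial) a
  by_cases he : orbit K ((⟨g, hg⟩ : R) • a) = orbit K a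
  · left; rw [h3, he]
  · right
    have hd := disjoint_orbit_of_ne he
    rw [← h3] at hd
    apply Set.eq_of_subset_of_ncard_le hd.subset_compl_right _ (Set.toFinite _)
    rw [Set.ncard_smul_set]
    have := Set.ncard_add_ncard_compl (orbit K a)
    rw [Nat.card_eq_fintype_card] at this
    omega

/-- If all proper overgroups of a Sylow 2-subgroup lie in one proper subgroup, the degree is
`2 ^ k + 1`. -/
theorem SylIn.card_of_unique_over {G R M : Subgroup (Perm α)} (hG : alternatingGroup α ≤ G)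
    (h : SylIn 2 R G) (h5 : 5 ≤ Fintype.card α) (hMG : M < G)
    (hM : ∀ H, R ≤ H → H < G → H ≤ M) : ∃ k, 2 ≤ k ∧ Fintype.card α = 2 ^ k + 1 := by
  have hst : ∀ a : α, (orbit R a)ᶜ.Nonempty → G ⊓ stabilizer (Perm α) (orbit R a) ≤ M := fun a ha =>
    hM _ (le_inf h.le fun g hg => mem_stabilizer_iff.2 (smul_orbit_of_mem hg a))
      (inf_stabilizer_lt hG (by omega) ⟨a, mem_orbit_self a⟩ ha)
  have hne : ∀ a b : α, b ∉ orbit R a → (orbit R a).ncard ≠ (orbit R b).ncard := fun a b hb hc =>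
    hb (h.orbit_eq_of_ncard_eq_alt hG (by omega) hc ▸ mem_orbit_self b)
  have hsymm : ∀ a b : α, b ∉ orbit R a → a ∉ orbit R b := fun a b hb hc => hb (mem_orbit_symm.1 hc)
  have hpos : ∀ a : α, 0 < (orbit R a).ncard := fun a =>
    (Set.ncard_pos (Set.toFinite _)).2 ⟨a, mem_orbit_self a⟩
  have hfpf : Even (Fintype.card α) → ∃ τ : Perm α, (∀ a, τ (τ a) = a) ∧ (∀ a, τ a ≠ a) ∧
      ∀ g ∈ alternatingGroup α, Commute τ g → g ∈ M := by
    intro hn
    obtain ⟨τ, t1, t2, t3⟩ := exists_fpf_involution h.pgrp hn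
    refine ⟨τ, t1, t2, fun g hg hc => hM _ (le_inf h.le fun r hr => ?_)
      (inf_centralizer_fpf_lt t1 t2 hG (by omega)) ⟨hG hg, ?_⟩⟩
    · rw [Subgroup.mem_centralizer_iff]
      rintro _ rfl
      exact Equiv.ext fun a => t3 r hr a
    · exact Subgroup.mem_centralizer_iff.2 (by rintro _ rfl; exact hc.eq)
  -- three orbits are impossible
  have three : ∀ a b c : α, b ∉ orbit R a → c ∉ orbit R a → c ∉ orbit R b →
      Nat.card α ≠ 2 * (orbit R a).ncard → False := by
    intro a b c hab hac hbc hn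
    have h1 := le_stabilizer_of_lt hG ⟨a, mem_orbit_self a⟩ ⟨b, hab⟩ hn (hst a ⟨b, hab⟩) hMG
    have hw : ∃ w, w ∉ orbit R b ∧ w ≠ a ∧ w ≠ c := by
      have := hne a c hac
      have := hpos a
      have := hpos c
      by_cases h1 : 1 < (orbit R a).ncard
      · obtain ⟨w, hw, hwa⟩ := Set.exists_ne_of_one_lt_ncard h1 a
        refine ⟨w, fun h' => hab ?_, hwa, fun h' => hac (h' ▸ hw)⟩
        rw [← orbit_eq_iff.2 hw]
        exact mem_orbit_symm.1 h'
      · obtain ⟨w, hw, hwc⟩ := Set.exists_ne_of_one_lt_ncard (s := orbit R c) (by omega) c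
        refine ⟨w, fun h' => hbc ?_, fun h' => hac (mem_orbit_symm.1 (h' ▸ hw)), hwc⟩
        rw [← orbit_eq_iff.2 h']
        exact mem_orbit_symm.1 hw
    obtain ⟨w, hw1, hw2, hw3⟩ := hw
    have hac' : a ≠ c := fun h' => hac (h' ▸ mem_orbit_self a)
    obtain ⟨e1, e2, e3⟩ := exists_alt_map hac' hw2.symm hw3.symm
    have h2 : swap a c * swap c w ∈ M := hst b ⟨c, hbc⟩ ⟨hG e1, smul_set_eq_of_maps fun x hx => by
      rw [e3 x (fun h' => hsymm a b hab (h' ▸ hx)) (fun h' => hbc (h' ▸ hx))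
        (fun h' => hw1 (h' ▸ hx))]
      exact hx⟩
    have h3 : (swap a c * swap c w) • orbit R a = orbit R a := h1 h2
    apply hac
    have h5 := Set.smul_mem_smul_set (a := swap a c * swap c w) (mem_orbit_self (M := R) a)
    rw [h3] at h5
    rw [← e2]
    exact h5
  obtain ⟨a, -⟩ := exists_not_mem_list ([] : List α) (by simp; omega)
  obtain ⟨i, hi⟩ := exists_ncard_orbit h.pgrp a
  by_cases ha : orbit R a = Set.univ
  · -- one orbit
    exfalso
    have hn : Fintype.card α = 2 ^ i := by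
      rw [← hi, ha, Set.ncard_univ, Nat.card_eq_fintype_card]
    have h8 : 8 ≤ Fintype.card α := by
      rw [hn] at h5 ⊢
      have : 3 ≤ i := by
        by_contra h'
        have : i ≤ 2 := by omega
        interval_cases i <;> omega
      exact Nat.pow_le_pow_right (n := 2) (by norm_num) this
    obtain ⟨D, hD, hRD⟩ := exists_halving h.pgrp ha (by omega)
    have hDc : Dᶜ.ncard = D.ncard := by
      have := Set.ncard_add_ncard_compl D
      rw [Nat.card_eq_fintype_card] at this
      omega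
    obtain ⟨τ, t1, t2, t3⟩ := hfpf ⟨D.ncard, by omega⟩
    have hDne : D.Nonempty := (Set.ncard_pos (Set.toFinite _)).1 (by omega)
    have hDcne : Dᶜ.Nonempty := (Set.ncard_pos (Set.toFinite _)).1 (by omega)
    have hH : G ⊓ stabilizer (Perm α) ({D, Dᶜ} : Set (Set α)) ≤ M := by
      refine hM _ (le_inf h.le fun g hg => ?_) (lt_of_le_of_ne inf_le_left fun he => ?_)
      · rw [mem_stabilizer_iff, Set.smul_set_insert, Set.smul_set_singleton, Set.smul_set_compl]
        rcases hRD g hg with h' | h'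
        · rw [h']
        · rw [h', compl_compl, Set.pair_comm]
      · obtain ⟨g, hg, -, ⟨x, hx, hx'⟩, c, hc, hc'⟩ := exists_break_block t1 t2 (D := D) (by omega)
          hDcne
        have hg' := hG hg
        rw [← he] at hg'
        have h3 : g • ({D, Dᶜ} : Set (Set α)) = {D, Dᶜ} := hg'.2
        have h4 : g • D ∈ ({D, Dᶜ} : Set (Set α)) := h3 ▸ Set.smul_mem_smul_set (by simp)
        rcases h4 with h4 | h4
        · exact hx' (h4 ▸ Set.smul_mem_smul_set hx)
        · have : g • c ∈ Dᶜ := (show g • D = Dᶜ from h4) ▸ Set.smul_mem_smul_set hc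
          exact this (show g c ∈ D by rw [hc']; exact hc)
    have hD1 : alternatingGroup α ⊓ symOn D ≤ M := fun g hg => hH ⟨hG hg.1, by
      have : g • D = D := smul_set_eq_of_maps fun x hx => apply_mem_of_mem_symOn hg.2 hx
      change g • ({D, Dᶜ} : Set (Set α)) = {D, Dᶜ}
      rw [Set.smul_set_insert, Set.smul_set_singleton, Set.smul_set_compl, this]⟩
    have hD2 : alternatingGroup α ⊓ symOn Dᶜ ≤ M := fun g hg => hH ⟨hG hg.1, by
      have : g • Dᶜ = Dᶜ := smul_set_eq_of_maps fun x hx => apply_mem_of_mem_symOn hg.2 hx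
      have h' : g • D = D := by rw [Set.smul_set_compl] at this; exact compl_injective this
      change g • ({D, Dᶜ} : Set (Set α)) = {D, Dᶜ}
      rw [Set.smul_set_insert, Set.smul_set_singleton, Set.smul_set_compl, h']⟩
    have hRM : R ≤ M := fun g hg => hH ⟨h.le hg, by
      change g • ({D, Dᶜ} : Set (Set α)) = {D, Dᶜ}
      rw [Set.smul_set_insert, Set.smul_set_singleton, Set.smul_set_compl]
      rcases hRD g hg with h' | h'
      · rw [h']
      · rw [h', compl_compl, Set.pair_comm]⟩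
    have hblock : ∀ E : Set α, 4 ≤ E.ncard → 4 ≤ Eᶜ.ncard → alternatingGroup α ⊓ symOn E ≤ M →
        alternatingGroup α ⊓ symOn Eᶜ ≤ M → ∀ B, IsBlock M B → ∀ x ∈ B, ∀ y ∈ B, x ≠ y → x ∈ E →
        B = Set.univ := by
      intro E hE hE' m1 m2 B hB x hx y hy hxy hxE
      have h1 := block_absorb hB hE m1 hx hy hxE hxy
      by_cases h2 : B ⊆ E
      · exfalso
        have h3 : B = E := h2.antisymm h1
        subst h3
        obtain ⟨g, hg, hc, ⟨u, hu, hu'⟩, c, hc1, hc'⟩ := exists_break_block t1 t2 hE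
          ((Set.ncard_pos (Set.toFinite _)).1 (by omega))
        have : (⟨g, t3 g hg hc⟩ : M) • B = B := hB.smul_eq_of_mem hc1 (by
          change g c ∈ B
          rw [hc']; exact hc1)
        exact hu' (this ▸ Set.smul_mem_smul_set (a := (⟨g, t3 g hg hc⟩ : M)) hu)
      · obtain ⟨z, hz, hz'⟩ := Set.not_subset.1 h2
        have h3 := block_absorb hB hE' m2 hz hx hz' (fun h' => hz' (h' ▸ hxE))
        rw [← Set.univ_subset_iff, ← Set.union_compl_self E]
        exact Set.union_subset h1 h3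
    have htrans : IsPretransitive M α := ⟨fun x y => by
      obtain ⟨g, hg, hc, hxy⟩ := centralizer_fpf_trans t1 t2 (by omega) x y
      exact ⟨⟨g, t3 g hg hc⟩, hxy⟩⟩
    have hprim : IsPreprimitive M α := by
      refine ⟨fun {B} hB => ?_⟩
      rcases B.subsingleton_or_nontrivial with hs | ⟨x, hx, y, hy, hxy⟩
      · exact Or.inl hs
      right
      by_cases hxD : x ∈ D
      · exact hblock D (by omega) (by omega) hD1 hD2 B hB x hx y hy hxy hxD
      · exact hblock Dᶜ (by omega) (by rw [compl_compl]; omega) hD2 (by rw [compl_compl]; exact hD1)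
          B hB x hx y hy hxy hxD
    obtain ⟨x, hx⟩ := hDne
    obtain ⟨y, hy, hy'⟩ := exists_mem_not_mem_list (D := D) [x] (by simp; omega)
    obtain ⟨z, hz, hz'⟩ := exists_mem_not_mem_list (D := D) [x, y] (by simp; omega)
    simp only [List.mem_cons, List.not_mem_nil, or_false, not_or] at hy' hz'
    have h3 := isThreeCycle_swap_mul_swap_same (Ne.symm hy') (Ne.symm hz'.1) (Ne.symm hz'.2)
    exact h.not_alt_le hRM hMG (alternatingGroup_le_of_isPreprimitive_of_isThreeCycle_mem hprim h3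
      (hD1 ⟨h3.mem_alternatingGroup,
        Subgroup.mul_mem _ (swap_mem_symOn hx hy) (swap_mem_symOn hx hz)⟩))
  obtain ⟨b, hb⟩ := (Set.ne_univ_iff_exists_notMem _).1 ha
  obtain ⟨j, hj⟩ := exists_ncard_orbit h.pgrp b
  by_cases hab : orbit R a ∪ orbit R b = Set.univ
  · have hd : Disjoint (orbit R a) (orbit R b) :=
      disjoint_orbit_of_ne fun h' => hb (h' ▸ mem_orbit_self b)
    have hn : Fintype.card α = 2 ^ i + 2 ^ j := by
      rw [← hi, ← hj, ← Set.ncard_union_eq hd (Set.toFinite _) (Set.toFinite _), hab,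
        Set.ncard_univ, Nat.card_eq_fintype_card]
    have aux : ∀ k, 5 ≤ 2 ^ k + 1 → 2 ≤ k := by
      intro k hk
      by_contra h'
      have : k ≤ 1 := by omega
      interval_cases k <;> omega
    rcases Nat.eq_zero_or_pos i with rfl | hi0
    · exact ⟨j, aux j (by omega), by omega⟩
    rcases Nat.eq_zero_or_pos j with rfl | hj0
    · exact ⟨i, aux i (by omega), by omega⟩
    exfalso
    have hev : Even (Fintype.card α) := by
      rw [hn]
      exact ((Nat.even_pow.2 ⟨even_two, by omega⟩).add (Nat.even_pow.2 ⟨even_two, by omega⟩))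
    obtain ⟨τ, t1, t2, t3⟩ := hfpf hev
    have h1 := le_stabilizer_of_lt hG ⟨a, mem_orbit_self a⟩ ⟨b, hb⟩ (by
      have := hne a b hb
      rw [Nat.card_eq_fintype_card]
      omega) (hst a ⟨b, hb⟩) hMG
    obtain ⟨g, hg, hc, hxy⟩ := centralizer_fpf_trans t1 t2 (by omega) a b
    have h3 : g • orbit R a = orbit R a := h1 (t3 g hg hc)
    apply hb
    have h5 := Set.smul_mem_smul_set (a := g) (mem_orbit_self (M := R) a)
    rw [h3] at h5
    rw [← hxy]
    exact h5
  · exfalso
    obtain ⟨c, hc⟩ := (Set.ne_univ_iff_exists_notMem _).1 hab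
    simp only [Set.mem_union, not_or] at hc
    by_cases hn : Nat.card α = 2 * (orbit R a).ncard
    · refine three b a c (hsymm a b hb) hc.2 hc.1 fun h' => hne a b hb (by omega)
    · exact three a b c hb hc.1 hc.2 hn

theorem existsUnique_coatom_iff {Γ : Type*} [Group Γ] [Finite Γ] (R : Subgroup Γ) :
    (∃! M : Subgroup Γ, IsCoatom M ∧ R ≤ M) ↔
      ∃ M : Subgroup Γ, M ≠ ⊤ ∧ R ≤ M ∧ ∀ H, R ≤ H → H ≠ ⊤ → H ≤ M := by
  constructor
  · rintro ⟨M, ⟨h1, h2⟩, h3⟩
    refine ⟨M, h1.1, h2, fun H hH hH' => ?_⟩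
    rcases eq_top_or_exists_le_coatom H with h | ⟨N, hN, hN'⟩
    · exact absurd h hH'
    · rw [← h3 N ⟨hN, hH.trans hN'⟩]; exact hN'
  · rintro ⟨M, h1, h2, h3⟩
    have hM : IsCoatom M := ⟨h1, fun H hH => by
      by_contra h'
      exact hH.not_ge (h3 H (h2.trans hH.le) h')⟩
    refine ⟨M, ⟨hM, h2⟩, fun N hN => ?_⟩
    exact (hN.1.le_iff_eq h1).1 (h3 N hN.2 hN.1.1) |>.symm

/-- A Sylow 2-subgroup of a group of degree at least 5 containing the alternating group lies in a unique
maximal subgroup exactly when the degree is `2 ^ k + 1`. -/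
theorem existsUnique_coatom_sylow_iff {G : Subgroup (Perm α)} (hG : alternatingGroup α ≤ G)
    (h5 : 5 ≤ Fintype.card α) (R : Sylow 2 G) :
    (∃! M : Subgroup G, IsCoatom M ∧ (R : Subgroup G) ≤ M) ↔
      ∃ k, 2 ≤ k ∧ Fintype.card α = 2 ^ k + 1 := by
  rw [existsUnique_coatom_iff]
  have h := SylIn.of_sylow G R
  have hlt : ∀ M : Subgroup G, M ≠ ⊤ → M.map G.subtype < G := fun M hM =>
    lt_of_le_of_ne (Subgroup.map_subtype_le M) fun h' => hM (by
      rw [← Subgroup.comap_map_eq_self_of_injective G.subtype_injective M, h']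
      exact Subgroup.subgroupOf_self G)
  constructor
  · rintro ⟨M, h1, h2, h3⟩
    refine h.card_of_unique_over hG h5 (hlt M h1) fun H hH hHG => ?_
    have := h3 (H.subgroupOf G) (Subgroup.map_le_iff_le_comap.1 hH)
      (fun h' => hHG.not_ge (Subgroup.subgroupOf_eq_top.1 h'))
    intro g hg
    exact ⟨⟨g, hHG.le hg⟩, this hg, rfl⟩
  · rintro ⟨k, hk, hn⟩
    obtain ⟨a, h1, -, h3⟩ := h.over_le_stabilizer hG hk hn
    refine ⟨(stabilizer (Perm α) a).subgroupOf G, fun h' => ?_, fun g hg => h1 g ⟨g, hg, rfl⟩,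
      fun H hH hH' g hg => h3 _ (Subgroup.map_mono hH) (hlt H hH') ⟨g, hg, rfl⟩⟩
    obtain ⟨b, hb⟩ := exists_not_mem_list [a] (by simp; omega)
    have : b ∈ orbit G a := by rw [orbit_eq_univ_of_alt_le hG (by omega)]; trivial
    obtain ⟨g, hg, rfl⟩ := mem_orbit_subgroup.1 this
    have h4 : g • a = a := Subgroup.subgroupOf_eq_top.1 h' hg
    exact hb (by simp [h4])

end H61
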