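import Mathlib
import Cfsg.Agent.Lib.Transfer.NormalComplement

/-!
Orders of nilpotent permutation groups: the transitive constituents.
-/

set_option autoImplicit false

open MulAction

namespace H61

/-- The `2`-part of `n!`. -/
def v2 (n : ℕ) : ℕ := 2 ^ (n.factorial.factorization 2)

theorem v2_pos (n : ℕ) : 0 < v2 n := by unfold v2; positivity

theorem v2_mul_choose (a b : ℕ) :
    v2 (a + b) = v2 a * v2 b * 2 ^ (((a + b).choose a).factorization 2) := by
  unfold v2
  have h := Nat.add_choose_mul_factorial_mul_factorial a b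
  have h2 : (a + b).choose a = (a + b).choose b := Nat.choose_symm_add
  rw [← h, h2, Nat.factorization_mul (by positivity [Nat.choose_pos (Nat.le_add_left b a)])
    (Nat.factorial_ne_zero _), Nat.factorization_mul (Nat.choose_pos (Nat.le_add_left b a)).ne'
    (Nat.factorial_ne_zero _)]
  simp only [Finsupp.add_apply, pow_add]
  ring

theorem v2_mul_le (a b : ℕ) : v2 a * v2 b ≤ v2 (a + b) := by
  rw [v2_mul_choose]
  exact Nat.le_mul_of_pos_right _ (by positivity)

theorem v2_mono {a b : ℕ} (h : a ≤ b) : v2 a ≤ v2 b := by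
  obtain ⟨c, rfl⟩ := Nat.exists_eq_add_of_le h
  exact le_trans (Nat.le_mul_of_pos_right _ (v2_pos c)) (v2_mul_le a c)

theorem v2_succ (n : ℕ) : v2 (n + 1) = v2 n * 2 ^ ((n + 1).factorization 2) := by
  unfold v2
  rw [Nat.factorial_succ, Nat.factorization_mul (by omega) (Nat.factorial_ne_zero _)]
  simp only [Finsupp.add_apply, pow_add]
  ring

theorem v2_succ_of_odd {n : ℕ} (h : (n + 1) % 2 = 1) : v2 (n + 1) = v2 n := by
  rw [v2_succ, Nat.factorization_eq_zero_of_not_dvd (by omega)]; simp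

theorem v2_succ_of_two {n : ℕ} (h : (n + 1) % 4 = 2) : v2 (n + 1) = 2 * v2 n := by
  obtain ⟨k, hk⟩ : ∃ k, n + 1 = 2 * k := ⟨(n + 1) / 2, by omega⟩
  rw [v2_succ, hk, Nat.factorization_mul (by omega) (by omega), Finsupp.add_apply,
    Nat.factorization_eq_zero_of_not_dvd (n := k) (by omega), Nat.prime_two.factorization_self]
  ring

theorem v2_succ_of_four {n : ℕ} (h : (n + 1) % 4 = 0) : 4 * v2 n ≤ v2 (n + 1) := by
  have : 2 ≤ (n + 1).factorization 2 :=
    (Nat.prime_two.pow_dvd_iff_le_factorization (by omega)).mp (by omega)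
  rw [v2_succ, mul_comm]
  exact Nat.mul_le_mul_left _ (by simpa using Nat.pow_le_pow_right (n := 2) (by norm_num) this)

theorem v2_eq (n : ℕ) : v2 n = 2 ^ (n - (Nat.digits 2 n).sum) := by
  unfold v2
  have := Nat.sub_one_mul_factorization_factorial (n := n) Nat.prime_two
  simp only [Nat.add_one_sub_one, one_mul] at this
  rw [this]

theorem v2_vals : v2 0 = 1 ∧ v2 1 = 1 ∧ v2 2 = 2 ∧ v2 3 = 2 ∧ v2 4 = 8 ∧ v2 5 = 8 ∧ v2 6 = 16 ∧
    v2 7 = 16 ∧ v2 8 = 128 ∧ v2 9 = 128 ∧ v2 10 = 256 ∧ v2 11 = 256 ∧ v2 12 = 1024 ∧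
    v2 13 = 1024 ∧ v2 14 = 2048 ∧ v2 15 = 2048 ∧ v2 16 = 32768 ∧ v2 18 = 65536 ∧
    v2 24 = 4194304 ∧ v2 26 = 8388608 ∧ v2 28 = 33554432 ∧ v2 30 = 67108864 := by
  simp only [v2_eq]
  decide +kernel

theorem three_mul_two_pow_lt {a : ℕ} (ha : 10 ≤ a) : 3 * 2 ^ (a / 2) < v2 a := by
  induction a using Nat.strong_induction_on with
  | _ a ih =>
    obtain ⟨-, -, -, -, h4, -, -, -, -, -, h10, h11, h12, h13, -⟩ := v2_vals
    by_cases h : a < 14
    · interval_cases a <;> simp [*]
    · obtain ⟨b, rfl⟩ : ∃ b, a = b + 4 := ⟨a - 4, by omega⟩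
      have h1 := ih b (by omega) (by omega)
      have h2 := v2_mul_le b 4
      rw [show (b + 4) / 2 = b / 2 + 2 by omega, pow_add]
      rw [h4] at h2
      omega

theorem three_pow_lt {k : ℕ} (hk : 12 ≤ k) : 3 * 3 ^ k < v2 (2 * k) := by
  induction k using Nat.strong_induction_on with
  | _ k ih =>
    obtain ⟨-, -, -, -, -, -, -, -, h8, -, -, -, -, -, -, -, -, -, h24, h26, h28, h30⟩ := v2_vals
    by_cases h : k < 16
    · interval_cases k <;> simp [*]
    · obtain ⟨b, rfl⟩ : ∃ b, k = b + 4 := ⟨k - 4, by omega⟩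
      have h1 := ih b (by omega) (by omega)
      have h2 := v2_mul_le (2 * b) 8
      rw [show 2 * (b + 4) = 2 * b + 8 by omega, pow_add]
      rw [h8] at h2
      omega

theorem three_mul_lt_v2 {a : ℕ} (ha : 8 ≤ a) : 3 * a < v2 a := by
  induction a, ha using Nat.le_induction with
  | base => rw [v2_vals.2.2.2.2.2.2.2.2.1]; norm_num
  | succ a ha ih =>
    by_cases h : a < 10
    · obtain ⟨-, -, -, -, h4, -, -, -, -, h9, h10, -⟩ := v2_vals
      interval_cases a <;> simp [*]
    · have h1 := three_mul_two_pow_lt (a := a + 1) (by omega)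
      have h2 : a + 1 ≤ 2 ^ ((a + 1) / 2) := by
        obtain ⟨k, hk⟩ : ∃ k, (a + 1) / 2 = k + 3 := ⟨(a + 1) / 2 - 3, by omega⟩
        have h3 : k < 2 ^ k := Nat.lt_two_pow_self
        rw [hk, pow_add]
        omega
      omega

section PGroup

variable {G Ω : Type*} [Group G] [Finite Ω] [MulAction G Ω] [FaithfulSMul G Ω]

theorem card_dvd_factorial_of_faithful : Nat.card G ∣ (Nat.card Ω).factorial := by
  classical
  cases nonempty_fintype Ω
  have := Subgroup.card_dvd_of_injective (MulAction.toPermHom G Ω) MulAction.toPerm_injective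
  rwa [Nat.card_perm] at this

/-- A `p`-group acting faithfully on `b ≥ 1` points has order `p ^ e` with `(p-1) e < b`. -/
theorem exists_card_eq_pow_of_faithful {p : ℕ} [hp : Fact p.Prime] (hG : IsPGroup p G)
    [Nonempty Ω] : ∃ e, Nat.card G = p ^ e ∧ (p - 1) * e < Nat.card Ω := by
  have : Finite G := Finite.of_injective _ (MulAction.toPerm_injective (α := G) (β := Ω))
  obtain ⟨e, he⟩ := IsPGroup.iff_card.mp hG
  refine ⟨e, he, lt_of_le_of_lt (Nat.mul_le_mul_left _ ?_)
    (sub_one_mul_padicValNat_factorial_lt_of_ne_zero p Nat.card_pos.ne')⟩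
  have h := card_dvd_factorial_of_faithful (G := G) (Ω := Ω)
  rw [he] at h
  exact (padicValNat_dvd_iff_le (Nat.factorial_ne_zero _)).mp h

theorem card_le_v2_of_faithful (hG : IsPGroup 2 G) : Nat.card G ≤ v2 (Nat.card Ω) := by
  have : Finite G := Finite.of_injective _ (MulAction.toPerm_injective (α := G) (β := Ω))
  obtain ⟨e, he⟩ := IsPGroup.iff_card.mp hG
  have h := card_dvd_factorial_of_faithful (G := G) (Ω := Ω)
  rw [he] at h ⊢
  exact Nat.pow_le_pow_right (by norm_num)
    ((Nat.prime_two.pow_dvd_iff_le_factorization (Nat.factorial_ne_zero _)).mp h)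

end PGroup

theorem pow_le_two_pow {p e b : ℕ} (hp : 2 ≤ p) (h : (p - 1) * e < b) : p ^ e ≤ 2 ^ (b - 1) := by
  have h1 : p ≤ 2 ^ (p - 1) := by
    have : p - 1 < 2 ^ (p - 1) := Nat.lt_two_pow_self
    omega
  calc p ^ e ≤ (2 ^ (p - 1)) ^ e := Nat.pow_le_pow_left h1 _
    _ = 2 ^ ((p - 1) * e) := by rw [← pow_mul]
    _ ≤ 2 ^ (b - 1) := Nat.pow_le_pow_right (by norm_num) (by omega)

theorem pow_le_three_pow {p e b : ℕ} (hp : p.Prime) (hp2 : p ≠ 2) (h : (p - 1) * e < b) :
    p ^ e ≤ 3 ^ ((b - 1) / 2) := by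
  obtain ⟨k, rfl⟩ := hp.odd_of_ne_two hp2
  have h1 : 2 * k + 1 ≤ 3 ^ k := by
    clear hp hp2 h
    induction k with
    | zero => simp
    | succ k ih =>
      have : 1 ≤ 3 ^ k := Nat.one_le_pow _ _ (by norm_num)
      rw [pow_succ]; omega
  calc (2 * k + 1) ^ e ≤ (3 ^ k) ^ e := Nat.pow_le_pow_left h1 _
    _ = 3 ^ (k * e) := by rw [← pow_mul]
    _ ≤ 3 ^ ((b - 1) / 2) := Nat.pow_le_pow_right (by norm_num) (by
        have : (2 * k + 1 - 1) * e = 2 * (k * e) := by simp [mul_assoc]
        omega)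

section Trans

variable {G Ω : Type*} [Group G] [Finite G] [MulAction G Ω] [FaithfulSMul G Ω]

omit [Finite G] in
/-- If `G = AB` with `A`, `B` commuting and `G` transitive then `A` is faithful on its orbits. -/
theorem faithful_orbit_of_commute [IsPretransitive G Ω] (A B : Subgroup G)
    (hAB : ∀ g : G, ∃ a ∈ A, ∃ b ∈ B, g = b * a) (hc : ∀ a ∈ A, ∀ b ∈ B, a * b = b * a) (ω : Ω) :
    FaithfulSMul A (orbit A ω) := by
  refine faithfulSMul_iff.mpr fun x hx => ?_
  ext
  refine faithfulSMul_iff.mp (inferInstance : FaithfulSMul G Ω) _ fun y => ?_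
  obtain ⟨g, rfl⟩ := exists_smul_eq G ω y
  obtain ⟨a, ha, b, hb, rfl⟩ := hAB g
  have h1 : (x : G) • a • ω = a • ω := congrArg Subtype.val (hx ⟨a • ω, ⟨a, ha⟩, rfl⟩)
  rw [mul_smul, ← mul_smul, hc _ x.2 _ hb, mul_smul, h1]

/-- Splitting of a transitive nilpotent group at a prime. -/
theorem exists_split [Finite Ω] [IsPretransitive G Ω] [Group.IsNilpotent G] (p : ℕ) [Fact p.Prime]
    (ω : Ω) : ∃ (P Q : Subgroup G) (j : ℕ), IsPGroup p P ∧ ¬ p ∣ Nat.card Q ∧
      Nat.card G = Nat.card P * Nat.card Q ∧ FaithfulSMul P (orbit P ω) ∧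
      FaithfulSMul Q (orbit Q ω) ∧ Nat.card (orbit P ω) = p ^ j ∧ ¬ p ∣ Nat.card (orbit Q ω) ∧
      p ^ j * Nat.card (orbit Q ω) ∣ Nat.card Ω ∧ (Q = ⊥ → Nat.card Ω = p ^ j) := by
  obtain ⟨P, Q, hQ, hc⟩ := H4.hasNormalPComplement_of_isNilpotent (p := p) (G := G)
  have hP : (P : Subgroup G).Normal :=
    Sylow.normal_of_normalizerCondition Group.normalizerCondition_of_isNilpotent P
  have hcomm : ∀ a ∈ (P : Subgroup G), ∀ b ∈ Q, a * b = b * a := fun a ha b hb =>
    Subgroup.commute_of_normal_of_disjoint _ _ hP hQ hc.disjoint.symm a b ha hb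
  have hQc : ¬ p ∣ Nat.card Q := by
    rw [← hc.index_eq_card]; exact P.not_dvd_index
  obtain ⟨j, hj⟩ := P.2.card_orbit ω
  have hQo : ¬ p ∣ Nat.card (orbit Q ω) := fun h => hQc (h.trans (by
    rw [Nat.card_coe_set_eq, ← MulAction.index_stabilizer]
    exact Subgroup.index_dvd_card _))
  have hQP : ∀ g : G, ∃ a ∈ (P : Subgroup G), ∃ b ∈ Q, g = b * a := fun g => by
    obtain ⟨⟨b, a⟩, h⟩ := hc.2 g
    exact ⟨a, a.2, b, b.2, h.symm⟩
  have hPQ : ∀ g : G, ∃ a ∈ Q, ∃ b ∈ (P : Subgroup G), g = b * a := fun g => by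
    obtain ⟨a, ha, b, hb, h⟩ := hQP g
    exact ⟨b, hb, a, ha, h.trans (hcomm a ha b hb).symm⟩
  refine ⟨P, Q, j, P.2, hQc, by rw [← hc.card_mul_card, mul_comm],
    faithful_orbit_of_commute _ _ hQP hcomm ω,
    faithful_orbit_of_commute _ _ hPQ (fun a ha b hb => (hcomm b hb a ha).symm) ω, hj, hQo, ?_, ?_⟩
  · refine Nat.Coprime.mul_dvd_of_dvd_of_dvd
      (Nat.Coprime.pow_left _ ((Nat.Prime.coprime_iff_not_dvd Fact.out).mpr hQo)) ?_ ?_
    · rw [← hj, Nat.card_coe_set_eq]
      exact (IsBlock.orbit_of_normal (N := (P : Subgroup G)) ω).ncard_dvd_card (nonempty_orbit ω)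
    · rw [Nat.card_coe_set_eq]
      exact (IsBlock.orbit_of_normal (N := Q) ω).ncard_dvd_card (nonempty_orbit ω)
  · intro hQ1
    have : orbit (P : Subgroup G) ω = Set.univ := by
      refine Set.eq_univ_of_forall fun y => ?_
      obtain ⟨g, rfl⟩ := exists_smul_eq G ω y
      obtain ⟨a, ha, b, hb, rfl⟩ := hQP g
      rw [hQ1, Subgroup.mem_bot] at hb
      subst hb
      exact ⟨⟨a, ha⟩, by simp⟩
    rw [← hj, this, Nat.card_univ]

end Trans

section Constituent

variable {G Ω : Type*} [Group G] [MulAction G Ω]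

/-- The permutation group induced on an invariant subset. -/
abbrev constit (A : SubMulAction G Ω) : Subgroup (Equiv.Perm A) := (toPermHom G A).range

theorem nilpotent_constit [Group.IsNilpotent G] (A : SubMulAction G Ω) :
    Group.IsNilpotent (constit A) :=
  Group.nilpotent_of_surjective _ (toPermHom G A).rangeRestrict_surjective

theorem eq_one_of_constit [FaithfulSMul G Ω] (A : SubMulAction G Ω) {g : G}
    (h1 : toPermHom G A g = 1) (h2 : toPermHom G (Aᶜ : SubMulAction G Ω) g = 1) : g = 1 := by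
  refine faithfulSMul_iff.mp (inferInstance : FaithfulSMul G Ω) _ fun y => ?_
  by_cases hy : y ∈ A
  · exact congrArg Subtype.val (Equiv.congr_fun h1 ⟨y, hy⟩)
  · exact congrArg Subtype.val (Equiv.congr_fun h2 ⟨y, hy⟩)

theorem card_dvd_constit [FaithfulSMul G Ω] (A : SubMulAction G Ω) :
    Nat.card G ∣ Nat.card (constit A) * Nat.card (constit Aᶜ) := by
  rw [← Nat.card_prod]
  refine Subgroup.card_dvd_of_injective
    ((toPermHom G A).rangeRestrict.prod (toPermHom G (Aᶜ : SubMulAction G Ω)).rangeRestrict) ?_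
  refine (injective_iff_map_eq_one _).mpr fun g hg => ?_
  exact eq_one_of_constit A (congrArg (fun x => (x.1 : Equiv.Perm A)) hg)
    (congrArg (fun x => (x.2 : Equiv.Perm (Aᶜ : SubMulAction G Ω))) hg)

theorem card_le_constit [Finite Ω] [FaithfulSMul G Ω] (A : SubMulAction G Ω) :
    Nat.card G ≤ Nat.card (constit A) * Nat.card (constit Aᶜ) :=
  Nat.le_of_dvd (Nat.mul_pos Nat.card_pos Nat.card_pos) (card_dvd_constit A)

theorem card_add_card_compl [Finite Ω] (A : SubMulAction G Ω) :
    Nat.card A + Nat.card (Aᶜ : SubMulAction G Ω) = Nat.card Ω := by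
  have := Set.ncard_add_ncard_compl (A : Set Ω)
  rw [← Nat.card_coe_set_eq, ← Nat.card_coe_set_eq] at this
  exact this

/-- An orbit as an invariant subset. -/
def orbSub (G : Type*) [Group G] [MulAction G Ω] (ω : Ω) : SubMulAction G Ω :=
  ⟨orbit G ω, fun g _ hx => mem_orbit_of_mem_orbit g hx⟩

theorem mem_orbSub_self (ω : Ω) : ω ∈ orbSub G ω := mem_orbit_self ω

theorem pretransitive_orbSub (ω : Ω) : IsPretransitive (constit (orbSub G ω)) (orbSub G ω) := by
  refine ⟨fun x y => ?_⟩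
  obtain ⟨x, a, rfl⟩ := x
  obtain ⟨y, b, rfl⟩ := y
  refine ⟨⟨_, b * a⁻¹, rfl⟩, Subtype.ext ?_⟩
  change (b * a⁻¹) • a • ω = b • ω
  simp [mul_smul]

/-- All elements act as even permutations. -/
def EvenAct (G Ω : Type*) [Group G] [MulAction G Ω] : Prop :=
  ∀ [Fintype Ω] [DecidableEq Ω], ∀ g : G, Equiv.Perm.sign (toPermHom G Ω g) = 1

theorem evenAct_of_odd [Finite G] (h : Odd (Nat.card G)) : EvenAct G Ω := by
  intro _ _ g
  have h1 : Equiv.Perm.sign (toPermHom G Ω g) ^ Nat.card G = 1 := by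
    rw [← map_pow, ← map_pow, pow_card_eq_one', map_one, map_one]
  rcases Int.units_eq_one_or (Equiv.Perm.sign (toPermHom G Ω g)) with h2 | h2
  · exact h2
  · rw [h2, h.neg_one_pow] at h1
    exact absurd h1 (by decide)

theorem evenAct_compl [Finite Ω] (h : EvenAct G Ω) (A : SubMulAction G Ω)
    (hA : EvenAct (constit A) A) : EvenAct (constit Aᶜ) (Aᶜ : SubMulAction G Ω) := by
  classical
  intro _ _ g
  obtain ⟨_, g, rfl⟩ := g
  cases nonempty_fintype Ω
  have e : toPermHom G Ω g = Equiv.Perm.subtypeCongr (p := fun x => x ∈ A) (toPermHom G A g)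
      (toPermHom G (Aᶜ : SubMulAction G Ω) g) := by
    ext x
    by_cases hx : x ∈ A
    · rw [Equiv.Perm.subtypeCongr.left_apply _ _ hx]; rfl
    · rw [Equiv.Perm.subtypeCongr.right_apply _ _ hx]; rfl
  have h1 := h g
  rw [e, Equiv.Perm.sign_subtypeCongr] at h1
  have h2 : Equiv.Perm.sign (toPermHom G A g) = 1 := hA ⟨_, g, rfl⟩
  rw [h2, one_mul] at h1
  convert h1 <;> rfl

theorem two_mul_card_dvd_of_evenAct [Finite Ω] [FaithfulSMul G Ω] (h : EvenAct G Ω)
    (h2 : 2 ≤ Nat.card Ω) : 2 * Nat.card G ∣ (Nat.card Ω).factorial := by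
  classical
  cases nonempty_fintype Ω
  have : Nontrivial Ω := Finite.one_lt_card_iff_nontrivial.mp h2
  have h1 := Subgroup.card_dvd_of_injective
    ((toPermHom G Ω).codRestrict (alternatingGroup Ω) fun g => h g)
    (fun a b hab => MulAction.toPerm_injective (congrArg Subtype.val hab))
  rw [← Nat.card_perm, ← two_mul_nat_card_alternatingGroup]
  exact Nat.mul_dvd_mul_left _ h1

theorem two_mul_card_le_v2 [Finite Ω] [FaithfulSMul G Ω] (h : EvenAct G Ω) (hG : IsPGroup 2 G)
    (h2 : 2 ≤ Nat.card Ω) : 2 * Nat.card G ≤ v2 (Nat.card Ω) := by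
  have : Finite G := Finite.of_injective _ (MulAction.toPerm_injective (α := G) (β := Ω))
  obtain ⟨e, he⟩ := IsPGroup.iff_card.mp hG
  have h := two_mul_card_dvd_of_evenAct h h2
  rw [he, ← pow_succ'] at h ⊢
  exact Nat.pow_le_pow_right (by norm_num)
    ((Nat.prime_two.pow_dvd_iff_le_factorization (Nat.factorial_ne_zero _)).mp h)

end Constituent

/-- A nilpotent group of degree `n ≥ 1` has order at most `2 ^ (n - 1)`. -/
theorem card_le_two_pow_aux (n : ℕ) : ∀ (G Ω : Type) [Group G] [Finite Ω] [MulAction G Ω]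
    [FaithfulSMul G Ω] [Group.IsNilpotent G], Nat.card Ω = n → Nat.card G ≤ 2 ^ (n - 1) := by
  induction n using Nat.strong_induction_on with
  | _ n ih =>
    intro G Ω _ _ _ _ _ hn
    have : Finite G := Finite.of_injective _ (MulAction.toPerm_injective (α := G) (β := Ω))
    by_cases h1 : n ≤ 1
    · have := Nat.le_of_dvd (Nat.factorial_pos _) (card_dvd_factorial_of_faithful (G := G) (Ω := Ω))
      rw [hn] at this
      interval_cases n <;> simpa using this
    have : Nonempty Ω := (Nat.card_pos_iff.mp (by omega)).1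
    obtain ⟨ω⟩ := this
    by_cases htr : IsPretransitive G Ω
    · obtain ⟨p, hp, hpn⟩ := Nat.exists_prime_and_dvd (n := n) (by omega)
      have := Fact.mk hp
      obtain ⟨P, Q, j, hP, hQ, hc, fP, fQ, hj, hQo, hd, hQ1⟩ := exists_split (G := G) p ω
      have : Nonempty (orbit P ω) := (nonempty_orbit ω).to_subtype
      have : Nonempty (orbit Q ω) := (nonempty_orbit ω).to_subtype
      obtain ⟨e, he, hlt⟩ := exists_card_eq_pow_of_faithful (Ω := orbit P ω) hP
      have hb := pow_le_two_pow hp.two_le hlt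
      have hc0 : 0 < Nat.card (orbit Q ω) := Nat.card_pos
      have hle := Nat.le_of_dvd (by omega) hd
      rw [hj] at hb hlt
      rw [hc, he]
      by_cases hj0 : j = 0
      · -- then `P` is trivial, and `p` divides the order of `G`
        subst hj0
        have he0 : e = 0 := by
          have := hp.two_le
          rcases Nat.eq_zero_or_pos e with h | h
          · exact h
          · have := Nat.mul_pos (show 0 < p - 1 by omega) h
            simp only [pow_zero] at hlt
            omega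
        exfalso
        apply hQ
        rw [he, he0, pow_zero, one_mul] at hc
        rw [← hc]
        refine hpn.trans ?_
        rw [← hn, ← index_stabilizer_of_transitive G ω]
        exact Subgroup.index_dvd_card _
      · have hb2 : 2 ≤ p ^ j := Nat.one_lt_pow hj0 hp.one_lt
        have hq := ih (Nat.card (orbit Q ω)) (by nlinarith) Q (orbit Q ω) rfl
        calc p ^ e * Nat.card Q ≤ 2 ^ (p ^ j - 1) * 2 ^ (Nat.card (orbit Q ω) - 1) :=
              Nat.mul_le_mul hb hq
          _ = 2 ^ (p ^ j - 1 + (Nat.card (orbit Q ω) - 1)) := by rw [pow_add]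
          _ ≤ 2 ^ (n - 1) := Nat.pow_le_pow_right (by norm_num) (by
              obtain ⟨b, hb⟩ : ∃ b, p ^ j = b + 1 := ⟨p ^ j - 1, by omega⟩
              obtain ⟨c, hc⟩ : ∃ c, Nat.card (orbit Q ω) = c + 1 := ⟨_, (Nat.succ_pred hc0.ne').symm⟩
              rw [hb, hc, hn] at hle
              rw [hb, hc]
              have : (b + 1) * (c + 1) = b * c + b + c + 1 := by ring
              omega)
    · have hsum := card_add_card_compl (orbSub G ω)
      have ha : 0 < Nat.card (orbSub G ω) :=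
        Nat.card_pos_iff.mpr ⟨⟨⟨ω, mem_orbSub_self ω⟩⟩, inferInstance⟩
      have hb : 0 < Nat.card ((orbSub G ω)ᶜ : SubMulAction G Ω) := by
        refine Nat.card_pos_iff.mpr ⟨?_, inferInstance⟩
        by_contra hne
        apply htr
        refine ⟨fun x y => ?_⟩
        have hall : ∀ z, z ∈ orbit G ω := fun z => by
          by_contra hz
          exact hne ⟨⟨z, hz⟩⟩
        obtain ⟨a, rfl⟩ := hall x
        obtain ⟨b, rfl⟩ := hall y
        exact ⟨b * a⁻¹, by simp [mul_smul]⟩
      have := nilpotent_constit (orbSub G ω)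
      have := nilpotent_constit (orbSub G ω)ᶜ
      have h2 := ih _ (by omega) (constit (orbSub G ω)) (orbSub G ω) rfl
      have h3 := ih _ (by omega) (constit (orbSub G ω)ᶜ) ((orbSub G ω)ᶜ : SubMulAction G Ω) rfl
      refine (card_le_constit (orbSub G ω)).trans ((Nat.mul_le_mul h2 h3).trans ?_)
      rw [← pow_add]
      exact Nat.pow_le_pow_right (by norm_num) (by omega)

/-- The order of a transitive nilpotent group which is not a `2`-group. -/
theorem transitive_bound {G Ω : Type} [Group G] [Finite Ω] [MulAction G Ω] [FaithfulSMul G Ω]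
    [Group.IsNilpotent G] [IsPretransitive G Ω] (ω : Ω) {p : ℕ} (hp : p.Prime) (hp2 : p ≠ 2)
    (hpG : p ∣ Nat.card G) :
    3 * Nat.card G < v2 (Nat.card Ω) ∨ (Nat.card Ω = 6 ∧ Nat.card G ≤ 6) ∨
      (Odd (Nat.card G) ∧ ((Nat.card Ω = 3 ∧ Nat.card G = 3) ∨ (Nat.card Ω = 5 ∧ Nat.card G ≤ 5) ∨
        (Nat.card Ω = 7 ∧ Nat.card G ≤ 7) ∨ (Nat.card Ω = 9 ∧ Nat.card G ≤ 81))) := by
  have : Finite G := Finite.of_injective _ (MulAction.toPerm_injective (α := G) (β := Ω))
  have := Fact.mk hp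
  obtain ⟨P, Q, j, hP, hQ, hc, fP, fQ, hj, hQo, hd, hQ1⟩ := exists_split (G := G) p ω
  have : Nonempty (orbit P ω) := (nonempty_orbit ω).to_subtype
  have : Nonempty (orbit Q ω) := (nonempty_orbit ω).to_subtype
  have : Nonempty Ω := ⟨ω⟩
  obtain ⟨e, he, hlt⟩ := exists_card_eq_pow_of_faithful (Ω := orbit P ω) hP
  have hb := pow_le_two_pow hp.two_le hlt
  have hb3 := pow_le_three_pow hp hp2 hlt
  have hc0 : 0 < Nat.card (orbit Q ω) := Nat.card_pos
  have hle := Nat.le_of_dvd Nat.card_pos hd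
  have hq := card_le_two_pow_aux _ Q (orbit Q ω) rfl
  have hp3 : 3 ≤ p := by have := hp.two_le; omega
  rw [hj] at hb hlt hb3
  have he0 : e ≠ 0 := by
    rintro rfl
    rw [he, pow_zero, one_mul] at hc
    exact hQ (hc ▸ hpG)
  have hj0 : j ≠ 0 := by
    rintro rfl
    have := Nat.mul_pos (show 0 < p - 1 by omega) (Nat.pos_of_ne_zero he0)
    simp only [pow_zero] at hlt
    omega
  have hodd : Odd (p ^ j) := (hp.odd_of_ne_two hp2).pow
  have hb2 : p ≤ p ^ j := Nat.le_self_pow hj0 p
  by_cases hc1 : Nat.card (orbit Q ω) = 1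
  · have hQc : Nat.card Q = 1 := by rw [hc1] at hq; have : 0 < Nat.card Q := Nat.card_pos; omega
    have hn := hQ1 (Subgroup.eq_bot_of_card_eq _ hQc)
    rw [hc, hQc, he, mul_one, hn]
    by_cases hj1 : j = 1
    · subst hj1
      have he1 : e = 1 := by
        rw [pow_one] at hlt
        by_contra h
        have : (p - 1) * 2 ≤ (p - 1) * e := Nat.mul_le_mul_left _ (by omega)
        omega
      subst he1
      rw [pow_one] at *
      by_cases h8 : 8 ≤ p
      · exact Or.inl (three_mul_lt_v2 h8)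
      · refine Or.inr (Or.inr ⟨hodd, ?_⟩)
        obtain ⟨k, hk⟩ := hodd
        omega
    · have h2 : p ^ 2 ≤ p ^ j := Nat.pow_le_pow_right hp.pos (by omega)
      by_cases h25 : 25 ≤ p ^ j
      · left
        have h3 := three_pow_lt (k := (p ^ j - 1) / 2) (by omega)
        have h4 := v2_mono (show 2 * ((p ^ j - 1) / 2) ≤ p ^ j by omega)
        omega
      · have hp' : p = 3 := by
          by_contra h
          have h4 : p ≠ 4 := by rintro rfl; exact absurd hp (by decide)
          have : 5 ^ 2 ≤ p ^ 2 := Nat.pow_le_pow_left (by omega) 2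
          omega
        subst hp'
        have hj2 : j = 2 := by
          by_contra h
          have : 3 ^ 3 ≤ 3 ^ j := Nat.pow_le_pow_right (by norm_num) (by omega)
          omega
        subst hj2
        refine Or.inr (Or.inr ⟨(by decide : Odd 3).pow, Or.inr (Or.inr (Or.inr ⟨rfl, hb3⟩))⟩)
  · generalize Nat.card (orbit Q ω) = c at *
    have hcop : Nat.Coprime (p ^ j) c :=
      Nat.Coprime.pow_left _ ((Nat.Prime.coprime_iff_not_dvd hp).mpr hQo)
    generalize p ^ j = b at *
    rw [hc, he]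
    generalize p ^ e = x at *
    generalize Nat.card Q = y at *
    generalize Nat.card Ω = n at *
    by_cases h10 : 10 ≤ b * c
    · left
      have h1 := three_mul_two_pow_lt h10
      have h2 := v2_mono hle
      have h3 : x * y ≤ 2 ^ (b * c / 2) := by
        refine (Nat.mul_le_mul hb hq).trans ?_
        rw [← pow_add]
        refine Nat.pow_le_pow_right (by norm_num) ?_
        obtain ⟨b', rfl⟩ : ∃ b', b = b' + 2 := ⟨b - 2, by omega⟩
        obtain ⟨c', rfl⟩ : ∃ c', c = c' + 2 := ⟨c - 2, by omega⟩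
        have : (b' + 2) * (c' + 2) = b' * c' + 2 * b' + 2 * c' + 4 := by ring
        omega
      omega
    · have hb' : b = 3 := by
        obtain ⟨k, hk⟩ := hodd
        by_contra h
        have : 5 * 2 ≤ b * c := Nat.mul_le_mul (by omega) (by omega)
        omega
      subst hb'
      have hc' : c = 2 := by
        by_contra h
        have : c = 3 := by omega
        subst this
        exact absurd hcop (by decide)
      subst hc'
      have hxy : x * y ≤ 6 := Nat.mul_le_mul hb3 hq
      by_cases h6 : n = 6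
      · exact Or.inr (Or.inl ⟨h6, hxy⟩)
      · left
        have h8 := v2_mono (show 8 ≤ n by omega)
        rw [v2_vals.2.2.2.2.2.2.2.2.1] at h8
        omega

/-- A nilpotent permutation group which is not a `2`-group has a small transitive constituent. -/
theorem exists_constit {G Ω : Type} [Group G] [Finite Ω] [MulAction G Ω] [FaithfulSMul G Ω]
    [Group.IsNilpotent G] (h2 : ¬ IsPGroup 2 G) : ∃ A : SubMulAction G Ω, 0 < Nat.card A ∧
    (3 * Nat.card (constit A) < v2 (Nat.card A) ∨ (Nat.card A = 6 ∧ Nat.card (constit A) ≤ 6) ∨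
      (Odd (Nat.card (constit A)) ∧ ((Nat.card A = 3 ∧ Nat.card (constit A) = 3) ∨
        (Nat.card A = 5 ∧ Nat.card (constit A) ≤ 5) ∨ (Nat.card A = 7 ∧ Nat.card (constit A) ≤ 7) ∨
        (Nat.card A = 9 ∧ Nat.card (constit A) ≤ 81)))) := by
  have : Finite G := Finite.of_injective _ (MulAction.toPerm_injective (α := G) (β := Ω))
  obtain ⟨p, hp, hpG, hp2⟩ : ∃ p, p.Prime ∧ p ∣ Nat.card G ∧ p ≠ 2 := by
    by_contra h
    push Not at h
    exact h2 (IsPGroup.of_card (Nat.eq_prime_pow_of_unique_prime_dvd Nat.card_pos.ne'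
      fun {d} hd hdG => h d hd hdG))
  have := Fact.mk hp
  obtain ⟨g, hg⟩ := exists_prime_orderOf_dvd_card' p hpG
  obtain ⟨ω, hω⟩ : ∃ ω : Ω, g • ω ≠ ω := by
    by_contra h
    push Not at h
    have := faithfulSMul_iff.mp (inferInstance : FaithfulSMul G Ω) g h
    rw [this, orderOf_one] at hg
    exact hp.one_lt.ne hg
  have := nilpotent_constit (orbSub G ω)
  have := pretransitive_orbSub (G := G) ω
  refine ⟨orbSub G ω, Nat.card_pos_iff.mpr ⟨⟨⟨ω, mem_orbSub_self ω⟩⟩, inferInstance⟩,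
    transitive_bound ⟨ω, mem_orbSub_self ω⟩ hp hp2 ?_⟩
  have h1 : orderOf ((toPermHom G (orbSub G ω)).rangeRestrict g) = p := by
    refine orderOf_eq_prime (by rw [← map_pow, ← hg, pow_orderOf_eq_one, map_one]) fun h => hω ?_
    exact congrArg Subtype.val
      (Equiv.congr_fun (congrArg Subtype.val h) ⟨ω, mem_orbSub_self ω⟩)
  exact h1 ▸ orderOf_dvd_natCard _

end H61
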