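import Mathlib
import Cfsg.Agent.Lib.SymSylow.Nilp

/-!
Orders of nilpotent subgroups of symmetric and alternating groups.
-/

set_option autoImplicit false

open MulAction

namespace H61

/-- Twice the largest order of a nilpotent subgroup of `S_n`. -/
def nilF (n : ℕ) : ℕ := if n % 4 = 3 then 3 * v2 n else 2 * v2 n

theorem nilF_le (n : ℕ) : nilF n ≤ 3 * v2 n := by unfold nilF; split_ifs <;> omega

theorem le_nilF (n : ℕ) : 2 * v2 n ≤ nilF n := by unfold nilF; split_ifs <;> omega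

theorem v2_add_three {m : ℕ} (h : m % 4 = 0) : v2 (m + 3) = 2 * v2 m := by
  rw [v2_succ_of_odd (n := m + 2) (by omega), v2_succ_of_two (n := m + 1) (by omega),
    v2_succ_of_odd (n := m) (by omega)]

theorem three_mul_nilF_lt {m : ℕ} (h : m % 4 ≠ 0) : 3 * nilF m < 2 * v2 (m + 3) := by
  have h0 := v2_pos m
  have m1 := v2_mono (show m ≤ m + 1 by omega)
  have m2 := v2_mono (show m + 1 ≤ m + 2 by omega)
  have m3 := v2_mono (show m + 2 ≤ m + 3 by omega)
  unfold nilF
  split_ifs with h3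
  · have h1 := v2_succ_of_four (n := m) (by omega)
    have h2 := v2_succ_of_two (n := m + 2) (by omega)
    change v2 (m + 3) = _ at h2
    omega
  · by_cases h1 : m % 4 = 1
    · have h1 := v2_succ_of_four (n := m + 2) (by omega)
      change _ ≤ v2 (m + 3) at h1
      omega
    · have h1 := v2_succ_of_four (n := m + 1) (by omega)
      change _ ≤ v2 (m + 2) at h1
      omega

theorem three_mul_nilF_eq {m : ℕ} (h : m % 4 = 0) : 3 * nilF m = nilF (m + 3) := by
  unfold nilF
  rw [if_neg (by omega), if_pos (by omega), v2_add_three h]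

theorem six_mul_nilF_lt (m : ℕ) : 6 * nilF m < v2 (m + 6) := by
  have h0 := v2_pos m
  have h1 := v2_mul_le m 6
  rw [v2_vals.2.2.2.2.2.2.1] at h1
  unfold nilF
  split_ifs with h3
  · have h1 := v2_succ_of_four (n := m) (by omega)
    have h2 := v2_mul_le (m + 1) 4
    have h3 := v2_mono (show m + 1 + 4 ≤ m + 6 by omega)
    rw [v2_vals.2.2.2.2.1] at h2
    omega
  · omega

section

variable {G Ω : Type} [Group G] [Finite Ω] [MulAction G Ω] [FaithfulSMul G Ω] [Group.IsNilpotent G]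

theorem sym_step (h2 : ¬ IsPGroup 2 G) (ih : ∀ A : SubMulAction G Ω, 0 < Nat.card A →
      2 * Nat.card (constit Aᶜ) ≤ nilF (Nat.card (Aᶜ : SubMulAction G Ω))) :
    Nat.card G < v2 (Nat.card Ω) ∨ (Nat.card Ω % 4 = 3 ∧
      ∃ A : SubMulAction G Ω, Nat.card A = 3 ∧ Nat.card (constit A) = 3) := by
  obtain ⟨A, hA, h⟩ := exists_constit (Ω := Ω) h2
  have h1 := ih A hA
  have h3 := card_le_constit A
  have h4 := card_add_card_compl A
  by_cases h5 : Nat.card A = 3 ∧ Nat.card (constit A) = 3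
  · by_cases h6 : Nat.card Ω % 4 = 3
    · exact Or.inr ⟨h6, A, h5⟩
    · left
      have := three_mul_nilF_lt (m := Nat.card (Aᶜ : SubMulAction G Ω)) (by omega)
      rw [← h4, h5.1, add_comm]
      rw [h5.2] at h3
      omega
  · left
    obtain ⟨-, -, -, -, -, v5, v6, v7, -, v9, -⟩ := v2_vals
    have h6 : 3 * Nat.card (constit A) < 2 * v2 (Nat.card A) := by
      rcases h with h | ⟨h, h'⟩ | ⟨-, h | ⟨h, h'⟩ | ⟨h, h'⟩ | ⟨h, h'⟩⟩
      · omega
      · rw [h]; omega
      · exact absurd h h5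
      · rw [h]; omega
      · rw [h]; omega
      · rw [h]; omega
    have h7 := nilF_le (Nat.card (Aᶜ : SubMulAction G Ω))
    have h8 := v2_mul_le (Nat.card A) (Nat.card (Aᶜ : SubMulAction G Ω))
    have h9 := v2_pos (Nat.card (Aᶜ : SubMulAction G Ω))
    rw [h4] at h8
    generalize Nat.card (constit A) = t at *
    generalize Nat.card (constit Aᶜ) = s at *
    generalize v2 (Nat.card A) = x at *
    generalize v2 (Nat.card (Aᶜ : SubMulAction G Ω)) = y at *
    have : 2 * s ≤ 3 * y := h1.trans h7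
    nlinarith

end

theorem two_mul_card_le_nilF_aux (n : ℕ) : ∀ (G Ω : Type) [Group G] [Finite Ω] [MulAction G Ω]
    [FaithfulSMul G Ω] [Group.IsNilpotent G], Nat.card Ω = n → 2 * Nat.card G ≤ nilF n := by
  induction n using Nat.strong_induction_on with
  | _ n ih =>
    intro G Ω _ _ _ _ _ hn
    have ih' : ∀ A : SubMulAction G Ω, 0 < Nat.card A →
        2 * Nat.card (constit Aᶜ) ≤ nilF (Nat.card (Aᶜ : SubMulAction G Ω)) := fun A hA => by
      have := nilpotent_constit Aᶜ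
      have := card_add_card_compl A
      exact ih _ (by omega) _ _ rfl
    have h1 := le_nilF n
    by_cases h2 : IsPGroup 2 G
    · have := card_le_v2_of_faithful (Ω := Ω) h2
      rw [hn] at this
      omega
    · rcases sym_step h2 ih' with h | ⟨h, A, hA, hA'⟩
      · rw [hn] at h; omega
      · have h3 := ih' A (by omega)
        have h4 := card_le_constit A
        have h5 := card_add_card_compl A
        have := three_mul_nilF_eq (m := Nat.card (Aᶜ : SubMulAction G Ω)) (by omega)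
        rw [← hn, ← h5, hA, add_comm, ← this]
        rw [hA'] at h4
        omega

/-- Four times the largest order of a nilpotent subgroup of `A_n`. -/
def nilA (n : ℕ) : ℕ := if n ≤ 1 then 4 else if n = 3 then 12 else if n = 5 then 20 else
  if n = 6 then 36 else if n = 9 then 324 else nilF n

theorem nilA_eq {n : ℕ} (h1 : 2 ≤ n) (h3 : n ≠ 3) (h5 : n ≠ 5) (h6 : n ≠ 6) (h9 : n ≠ 9) :
    nilA n = nilF n := by
  unfold nilA
  rw [if_neg (by omega), if_neg h3, if_neg h5, if_neg h6, if_neg h9]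

theorem nilA_small {a m t s g : ℕ}
    (h : (a = 3 ∧ t = 3) ∨ (a = 5 ∧ t ≤ 5) ∨ (a = 7 ∧ t ≤ 7) ∨ (a = 9 ∧ t ≤ 81))
    (hm : m ≤ 1 ∨ m = 3 ∨ m = 5 ∨ m = 6 ∨ m = 9) (h5 : 4 * s ≤ nilA m) (h3 : g ≤ t * s)
    (h6 : ¬ ((a + m) % 4 = 3 ∧ a = 3 ∧ t = 3)) :
    2 * g < v2 (a + m) ∨ (a + m = 5 ∧ g ≤ 5) ∨ (a + m = 6 ∧ g ≤ 9) ∨ (a + m = 9 ∧ g ≤ 81) := by
  obtain ⟨v0, v1, v2', v3, v4, v5, v6, v7, v8, v9, v10, v11, v12, v13, v14, v15, v16, v18, -⟩ :=
    v2_vals
  have hm' : (m = 0 ∧ s ≤ 1) ∨ (m = 1 ∧ s ≤ 1) ∨ (m = 3 ∧ s ≤ 3) ∨ (m = 5 ∧ s ≤ 5) ∨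
      (m = 6 ∧ s ≤ 9) ∨ (m = 9 ∧ s ≤ 81) := by
    have hm' : m = 0 ∨ m = 1 ∨ m = 3 ∨ m = 5 ∨ m = 6 ∨ m = 9 := by omega
    rcases hm' with rfl | rfl | rfl | rfl | rfl | rfl
    · change _ ≤ 4 at h5; omega
    · change _ ≤ 4 at h5; omega
    · change _ ≤ 12 at h5; omega
    · change _ ≤ 20 at h5; omega
    · change _ ≤ 36 at h5; omega
    · change _ ≤ 324 at h5; omega
  clear h5 hm
  rcases h with ⟨rfl, rfl⟩ | h
  · rcases hm' with ⟨rfl, h⟩ | ⟨rfl, h⟩ | ⟨rfl, h⟩ | ⟨rfl, h⟩ | ⟨rfl, h⟩ | ⟨rfl, h⟩ <;>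
    simp only [Nat.reduceAdd, true_and, and_true, not_true_eq_false] at h6 ⊢ <;> omega
  · clear h6
    rcases h with ⟨rfl, h'⟩ | ⟨rfl, h'⟩ | ⟨rfl, h'⟩ <;>
    rcases hm' with ⟨rfl, h⟩ | ⟨rfl, h⟩ | ⟨rfl, h⟩ | ⟨rfl, h⟩ | ⟨rfl, h⟩ | ⟨rfl, h⟩ <;>
    · have h10 := h3.trans (Nat.mul_le_mul h' h)
      simp only [Nat.reduceAdd, true_and]
      omega

section

variable {G Ω : Type} [Group G] [Finite Ω] [MulAction G Ω] [FaithfulSMul G Ω] [Group.IsNilpotent G]

theorem two_mul_card_le_nilF : 2 * Nat.card G ≤ nilF (Nat.card Ω) :=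
  two_mul_card_le_nilF_aux _ G Ω rfl

theorem sym_step' (h2 : ¬ IsPGroup 2 G) :
    Nat.card G < v2 (Nat.card Ω) ∨ (Nat.card Ω % 4 = 3 ∧
      ∃ A : SubMulAction G Ω, Nat.card A = 3 ∧ Nat.card (constit A) = 3) :=
  sym_step h2 fun A _ => by
    have := nilpotent_constit Aᶜ
    exact two_mul_card_le_nilF

theorem alt_step (hev : EvenAct G Ω) (h2 : ¬ IsPGroup 2 G)
    (ih : ∀ A : SubMulAction G Ω, 0 < Nat.card A → EvenAct (constit Aᶜ) (Aᶜ : SubMulAction G Ω) →
      4 * Nat.card (constit Aᶜ) ≤ nilA (Nat.card (Aᶜ : SubMulAction G Ω))) :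
    2 * Nat.card G < v2 (Nat.card Ω) ∨ (Nat.card Ω = 5 ∧ Nat.card G ≤ 5) ∨
      (Nat.card Ω = 6 ∧ Nat.card G ≤ 9) ∨ (Nat.card Ω = 9 ∧ Nat.card G ≤ 81) ∨
      (Nat.card Ω % 4 = 3 ∧ ∃ A : SubMulAction G Ω, Nat.card A = 3 ∧ Nat.card (constit A) = 3) := by
  obtain ⟨A, hA, h⟩ := exists_constit (Ω := Ω) h2
  have := nilpotent_constit Aᶜ
  have h1 : 2 * Nat.card (constit Aᶜ) ≤ nilF (Nat.card (Aᶜ : SubMulAction G Ω)) :=
    two_mul_card_le_nilF
  have h3 := card_le_constit A
  have h4 := card_add_card_compl A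
  have h7 := nilF_le (Nat.card (Aᶜ : SubMulAction G Ω))
  have h8 := v2_mul_le (Nat.card A) (Nat.card (Aᶜ : SubMulAction G Ω))
  have h9 := v2_pos (Nat.card (Aᶜ : SubMulAction G Ω))
  rw [h4] at h8
  rcases h with h | ⟨h, h'⟩ | ⟨hodd, h⟩
  · left
    generalize Nat.card (constit A) = t at *
    generalize Nat.card (constit Aᶜ) = s at *
    generalize v2 (Nat.card A) = x at *
    generalize v2 (Nat.card (Aᶜ : SubMulAction G Ω)) = y at *
    have : 2 * s ≤ 3 * y := h1.trans h7
    nlinarith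
  · left
    have h5 := six_mul_nilF_lt (Nat.card (Aᶜ : SubMulAction G Ω))
    have h6 := Nat.mul_le_mul_right (Nat.card (constit Aᶜ)) h'
    rw [← h4, h, add_comm]
    omega
  · have h5 := ih A hA (evenAct_compl hev A (evenAct_of_odd hodd))
    by_cases h6 : Nat.card Ω % 4 = 3 ∧ Nat.card A = 3 ∧ Nat.card (constit A) = 3
    · exact Or.inr (Or.inr (Or.inr (Or.inr ⟨h6.1, A, h6.2⟩)))
    obtain ⟨-, -, -, -, -, v5, -, v7, -, v9, -⟩ := v2_vals
    generalize Nat.card (constit A) = t at *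
    generalize Nat.card (constit Aᶜ) = s at *
    generalize Nat.card A = a at *
    generalize Nat.card (Aᶜ : SubMulAction G Ω) = m at *
    generalize Nat.card G = g at *
    generalize Nat.card Ω = n at *
    subst h4
    by_cases hm : m ≤ 1 ∨ m = 3 ∨ m = 5 ∨ m = 6 ∨ m = 9
    · rcases nilA_small h hm h5 h3 h6 with h | h | h | h
      · exact Or.inl h
      · exact Or.inr (Or.inl h)
      · exact Or.inr (Or.inr (Or.inl h))
      · exact Or.inr (Or.inr (Or.inr (Or.inl h)))
    · rw [nilA_eq (by omega) (by omega) (by omega) (by omega) (by omega)] at h5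
      left
      rcases h with ⟨h, h'⟩ | h
      · subst h h'
        have := three_mul_nilF_lt (m := m) (by omega)
        rw [add_comm]
        omega
      · have h10 : 3 * t < 2 * v2 a := by
          rcases h with ⟨h, h'⟩ | ⟨h, h'⟩ | ⟨h, h'⟩ <;> rw [h] <;> omega
        generalize v2 a = x at *
        generalize v2 m = y at *
        have : 4 * s ≤ 3 * y := h5.trans h7
        nlinarith

end

theorem four_mul_card_le_nilA_aux (n : ℕ) : ∀ (G Ω : Type) [Group G] [Finite Ω] [MulAction G Ω]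
    [FaithfulSMul G Ω] [Group.IsNilpotent G], EvenAct G Ω → Nat.card Ω = n →
    4 * Nat.card G ≤ nilA n := by
  induction n using Nat.strong_induction_on with
  | _ n ih =>
    intro G Ω _ _ _ _ _ hev hn
    have ih' : ∀ A : SubMulAction G Ω, 0 < Nat.card A →
        EvenAct (constit Aᶜ) (Aᶜ : SubMulAction G Ω) →
        4 * Nat.card (constit Aᶜ) ≤ nilA (Nat.card (Aᶜ : SubMulAction G Ω)) := fun A hA he => by
      have := nilpotent_constit Aᶜ
      have := card_add_card_compl A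
      exact ih _ (by omega) _ _ he rfl
    by_cases h1 : n ≤ 1
    · have := Nat.le_of_dvd (Nat.factorial_pos _) (card_dvd_factorial_of_faithful (G := G) (Ω := Ω))
      rw [hn] at this
      unfold nilA
      rw [if_pos h1]
      interval_cases n <;> simp at this <;> omega
    have h3 : 2 * v2 n ≤ nilA n := by
      obtain ⟨v0, v1, v2', v3, v4, v5, v6, v7, v8, v9, -⟩ := v2_vals
      have := le_nilF n
      unfold nilA
      rw [if_neg h1]
      split_ifs with a b c d
      · rw [a]; omega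
      · rw [b]; omega
      · rw [c]; omega
      · rw [d]; omega
      · exact this
    by_cases h2 : IsPGroup 2 G
    · have := two_mul_card_le_v2 hev h2 (by omega)
      rw [hn] at this
      omega
    · rcases alt_step hev h2 ih' with h | h | h | h | ⟨h, A, hA, hA'⟩
      · rw [hn] at h; omega
      · rw [← hn, h.1]; simp only [nilA]; norm_num; omega
      · rw [← hn, h.1]; simp only [nilA]; norm_num; omega
      · rw [← hn, h.1]; simp only [nilA]; norm_num; omega
      · have h3 := ih' A (by omega) (evenAct_compl hev A (evenAct_of_odd (by rw [hA']; decide)))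
        have h4 := card_le_constit A
        have h5 := card_add_card_compl A
        rw [hA'] at h4
        by_cases h6 : n = 3
        · have h7 : Nat.card (Aᶜ : SubMulAction G Ω) = 0 := by omega
          rw [h7] at h3
          rw [h6]
          change _ ≤ 4 at h3
          change _ ≤ 12
          omega
        · have := three_mul_nilF_eq (m := Nat.card (Aᶜ : SubMulAction G Ω)) (by omega)
          rw [nilA_eq (by omega) (by omega) (by omega) (by omega) (by omega)] at h3 ⊢
          rw [← hn, ← h5, hA, add_comm, ← this]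
          omega

section

variable {G Ω : Type} [Group G] [Finite Ω] [MulAction G Ω] [FaithfulSMul G Ω] [Group.IsNilpotent G]

theorem four_mul_card_le_nilA (hev : EvenAct G Ω) : 4 * Nat.card G ≤ nilA (Nat.card Ω) :=
  four_mul_card_le_nilA_aux _ G Ω hev rfl

theorem alt_step' (hev : EvenAct G Ω) (h2 : ¬ IsPGroup 2 G) :
    2 * Nat.card G < v2 (Nat.card Ω) ∨ (Nat.card Ω = 5 ∧ Nat.card G ≤ 5) ∨
      (Nat.card Ω = 6 ∧ Nat.card G ≤ 9) ∨ (Nat.card Ω = 9 ∧ Nat.card G ≤ 81) ∨
      (Nat.card Ω % 4 = 3 ∧ ∃ A : SubMulAction G Ω, Nat.card A = 3 ∧ Nat.card (constit A) = 3) :=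
  alt_step hev h2 fun A _ he => by
    have := nilpotent_constit Aᶜ
    exact four_mul_card_le_nilA he

/-- The extremal nilpotent groups of degree `≡ 3 (mod 4)`. -/
theorem sym_extremal {m : ℕ} (hm : m % 4 = 0) (hn : Nat.card Ω = m + 3)
    (hG : Nat.card G = 3 * v2 m) : ∃ A : SubMulAction G Ω, Nat.card A = 3 ∧
      Nat.card (constit A) = 3 ∧ IsPGroup 2 (constit Aᶜ) := by
  have h0 := v2_pos m
  have h1 := v2_add_three hm
  have h2 : ¬ IsPGroup 2 G := fun h => by
    have := card_le_v2_of_faithful (Ω := Ω) h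
    rw [hn] at this
    omega
  rcases sym_step' (Ω := Ω) h2 with h | ⟨-, A, hA, hA'⟩
  · rw [hn] at h; omega
  · refine ⟨A, hA, hA', ?_⟩
    by_contra h3
    have h4 := card_le_constit A
    have h5 := card_add_card_compl A
    have h6 : Nat.card (Aᶜ : SubMulAction G Ω) = m := by omega
    have := nilpotent_constit Aᶜ
    rw [hA'] at h4
    rcases sym_step' (Ω := (Aᶜ : SubMulAction G Ω)) h3 with h | ⟨h, -⟩
    · rw [h6] at h; omega
    · omega

theorem alt_extremal (hev : EvenAct G Ω) {m : ℕ} (hm : m % 4 = 0)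
    (hn : Nat.card Ω = m + 3) (hG : 2 * Nat.card G = 3 * v2 m) : ∃ A : SubMulAction G Ω,
      Nat.card A = 3 ∧ Nat.card (constit A) = 3 ∧ IsPGroup 2 (constit Aᶜ) := by
  have h0 := v2_pos m
  have h1 := v2_add_three hm
  have h2 : ¬ IsPGroup 2 G := fun h => by
    have := two_mul_card_le_v2 hev h (by omega)
    rw [hn] at this
    omega
  rcases alt_step' (Ω := Ω) hev h2 with h | h | h | h | ⟨-, A, hA, hA'⟩
  · rw [hn] at h; omega
  · omega
  · omega
  · omega
  · refine ⟨A, hA, hA', ?_⟩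
    by_contra h3
    have h4 := card_le_constit A
    have h5 := card_add_card_compl A
    have h6 : Nat.card (Aᶜ : SubMulAction G Ω) = m := by omega
    have := nilpotent_constit Aᶜ
    rw [hA'] at h4
    rcases alt_step' (Ω := (Aᶜ : SubMulAction G Ω))
      (evenAct_compl hev A (evenAct_of_odd (by rw [hA']; decide))) h3 with h | h | h | h | ⟨h, -⟩
    · rw [h6] at h; omega
    all_goals omega

end

end H61
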