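import Mathlib
import Cfsg.Agent.Lib.SymSylow.Nilp2
import Cfsg.Agent.Lib.SymSylow.Two

/-!
The extremal nilpotent subgroups of symmetric and alternating groups of degree `≡ 3 (mod 4)`.
-/

set_option autoImplicit false

open MulAction Equiv

namespace H61

variable {α : Type} [Fintype α] [DecidableEq α]

/-- The support set as an invariant subset. -/
def onSub {S : Set α} {H : Subgroup (Perm α)} (hH : H ≤ symOn S) : SubMulAction H α :=
  ⟨S, fun g _ hx => apply_mem_of_mem_symOn (hH g.2) hx⟩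

omit [Fintype α] [DecidableEq α] in
theorem card_constit_onSub_compl {S : Set α} {H : Subgroup (Perm α)} (hH : H ≤ symOn S) :
    Nat.card (constit (onSub hH)ᶜ) = 1 := by
  rw [Subgroup.card_eq_one, eq_bot_iff]
  rintro _ ⟨g, rfl⟩
  rw [Subgroup.mem_bot]
  ext x
  exact mem_symOn.mp (hH g.2) x x.2

omit [DecidableEq α] in
theorem card_dvd_of_le_symOn {S : Set α} {H : Subgroup (Perm α)} (hH : H ≤ symOn S) :
    Nat.card H ∣ S.ncard.factorial := by
  have h1 := card_dvd_constit (onSub hH)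
  rw [card_constit_onSub_compl, mul_one] at h1
  exact h1.trans (card_dvd_factorial_of_faithful (Ω := onSub hH))

theorem evenAct_of_le {H : Subgroup (Perm α)} (hH : H ≤ alternatingGroup α) : EvenAct H α := by
  have h : ∀ g : H, Perm.sign (g : Perm α) = 1 := fun g => Perm.mem_alternatingGroup.mp (hH g.2)
  intro _ _ g
  convert h g
  rfl

theorem two_mul_card_dvd_of_le_symOn {S : Set α} {H : Subgroup (Perm α)} (hH : H ≤ symOn S)
    (hA : H ≤ alternatingGroup α) (h2 : 2 ≤ S.ncard) : 2 * Nat.card H ∣ S.ncard.factorial := by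
  let A : SubMulAction H α := ⟨Sᶜ, fun g x hx => by
    have : g • x = x := mem_symOn.mp (hH g.2) x hx
    rwa [this]⟩
  have h0 : Nat.card (constit A) = 1 := by
    rw [Subgroup.card_eq_one, eq_bot_iff]
    rintro _ ⟨g, rfl⟩
    rw [Subgroup.mem_bot]
    ext x
    exact mem_symOn.mp (hH g.2) x x.2
  have h1 := card_dvd_constit A
  rw [h0, one_mul] at h1
  have h3 : Nat.card (Aᶜ : SubMulAction H α) = S.ncard := by
    have : ((Aᶜ : SubMulAction H α) : Set α) = S := compl_compl S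
    rw [← this]; rfl
  have hev : EvenAct H α := @evenAct_of_le α _ _ H hA
  have h4 := two_mul_card_dvd_of_evenAct
    (evenAct_compl hev A (evenAct_of_odd (by rw [h0]; decide))) (by omega)
  rw [h3] at h4
  exact (Nat.mul_dvd_mul_left _ h1).trans h4

theorem le_v2_of_dvd {e n : ℕ} (h : 2 ^ e ∣ n.factorial) : 2 ^ e ≤ v2 n :=
  Nat.pow_le_pow_right (by norm_num)
    ((Nat.prime_two.pow_dvd_iff_le_factorization (Nat.factorial_ne_zero _)).mp h)

omit [DecidableEq α] in
/-- Splitting of an extremal group. -/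
theorem exists_split_extremal {N : Subgroup (Perm α)} (A : SubMulAction N α)
    (h3 : Nat.card (constit A) = 3) (h2 : IsPGroup 2 (constit Aᶜ)) :
    Nat.card (N ⊓ symOn (A : Set α) : Subgroup _) = 3 ∧
    IsPGroup 2 (N ⊓ symOn (A : Set α)ᶜ : Subgroup _) ∧
    Nat.card N = 3 * Nat.card (N ⊓ symOn (A : Set α)ᶜ : Subgroup _) ∧
    N = (N ⊓ symOn (A : Set α)) ⊔ (N ⊓ symOn (A : Set α)ᶜ) := by
  have key : ∀ B : SubMulAction N α, ∀ S : Set α, (∀ x, x ∈ B ↔ x ∉ S) →
      Nat.card N = Nat.card (constit B) * Nat.card (N ⊓ symOn S : Subgroup _) := by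
    intro B S hBS
    have e : (toPermHom N B).ker = (N ⊓ symOn S).subgroupOf N := by
      ext g
      rw [MonoidHom.mem_ker, Subgroup.mem_subgroupOf, Subgroup.mem_inf, mem_symOn]
      constructor
      · intro h
        exact ⟨g.2, fun x hx => congrArg Subtype.val (Equiv.congr_fun h ⟨x, (hBS x).mpr hx⟩)⟩
      · intro h
        ext x
        exact h.2 x ((hBS x).mp x.2)
    rw [← Subgroup.index_ker, e,
      ← Nat.card_congr (Subgroup.subgroupOfEquivOfLe (inf_le_left (b := symOn S))).toEquiv,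
      Subgroup.index_mul_card]
  have k1 := key A (A : Set α)ᶜ (fun x => by simp)
  have k2 := key Aᶜ (A : Set α) (fun x => Iff.rfl)
  have k3 := card_le_constit A
  obtain ⟨e, he⟩ := IsPGroup.iff_card.mp h2
  rw [h3] at k1 k3
  rw [he] at k2 k3
  have hO : Nat.card (N ⊓ symOn (A : Set α) : Subgroup _) = 3 := by
    have h4 : 3 ∣ Nat.card (N ⊓ symOn (A : Set α) : Subgroup _) := by
      refine Nat.Coprime.dvd_of_dvd_mul_left (m := 2 ^ e) (Nat.Coprime.pow_right _ (by norm_num)) ?_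
      rw [← k2, k1]
      exact Dvd.intro _ rfl
    have h5 : Nat.card (N ⊓ symOn (A : Set α) : Subgroup _) ≤ 3 := by
      rw [k2, mul_comm 3] at k3
      exact Nat.le_of_mul_le_mul_left k3 (by positivity)
    exact le_antisymm h5 (Nat.le_of_dvd Nat.card_pos h4)
  have hT : Nat.card (N ⊓ symOn (A : Set α)ᶜ : Subgroup _) = 2 ^ e := by
    rw [hO] at k2; omega
  refine ⟨hO, IsPGroup.of_card hT, k1, ?_⟩
  symm
  refine Subgroup.eq_of_le_of_card_ge (sup_le inf_le_left inf_le_left)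
    (Nat.le_of_dvd Nat.card_pos ?_)
  rw [k1, hT]
  refine Nat.Coprime.mul_dvd_of_dvd_of_dvd (Nat.Coprime.pow_right _ (by norm_num)) ?_ ?_
  · rw [← hO]; exact Subgroup.card_dvd_of_le le_sup_left
  · rw [← hT]; exact Subgroup.card_dvd_of_le le_sup_right

omit [Fintype α] [DecidableEq α] in
theorem commute_of_symOn {S : Set α} {a b : Perm α} (ha : a ∈ symOn S) (hb : b ∈ symOn Sᶜ) :
    a * b = b * a := by
  ext x
  by_cases hx : x ∈ S
  · have h1 := mem_symOn.mp hb x (by simpa)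
    have h2 := mem_symOn.mp hb (a x) (by simpa using apply_mem_of_mem_symOn ha hx)
    simp [h1, h2]
  · have h1 := mem_symOn.mp ha x hx
    have h2 := mem_symOn.mp ha (b x) (apply_mem_of_mem_symOn hb hx)
    simp [h1, h2]

theorem map_conj_eq_of_commute {G : Type*} [Group G] {H : Subgroup G} {g : G}
    (h : ∀ x ∈ H, g * x = x * g) : H.map (MulAut.conj g).toMonoidHom = H := by
  ext y
  constructor
  · rintro ⟨x, hx, rfl⟩
    simpa [h x hx] using hx
  · intro hy
    exact ⟨y, hy, by simp [h y hy]⟩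

omit [DecidableEq α] in
theorem sylIn_three {K O : Subgroup (Perm α)} {S : Set α} (hS : S.ncard = 3) (hO : O ≤ K ⊓ symOn S)
    (h3 : Nat.card O = 3) : SylIn 3 O (K ⊓ symOn S) := by
  have := Fact.mk Nat.prime_three
  obtain ⟨P, hP, hOP⟩ := SylIn.exists_le (p := 3) (IsPGroup.of_card (n := 1) h3) hO
  have h1 := card_dvd_of_le_symOn (hP.le.trans inf_le_right)
  obtain ⟨e, he⟩ := IsPGroup.iff_card.mp hP.pgrp
  rw [hS, he] at h1
  have h2 : e ≤ 1 := by
    by_contra h
    exact absurd ((pow_dvd_pow 3 (show 2 ≤ e by omega)).trans h1) (by decide)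
  have : O = P := Subgroup.eq_of_le_of_card_ge hOP (by
    rw [he, h3]; simpa using Nat.pow_le_pow_right (n := 3) (by norm_num) h2)
  exact this ▸ hP

omit [DecidableEq α] in
/-- Conjugacy of the products `O × T` with the same three-set. -/
theorem conj_of_same {K O₁ O₂ T₁ T₂ : Subgroup (Perm α)} {S : Set α}
    (hO₁ : SylIn 3 O₁ (K ⊓ symOn S)) (hO₂ : SylIn 3 O₂ (K ⊓ symOn S))
    (hT₁ : SylIn 2 T₁ (K ⊓ symOn Sᶜ)) (hT₂ : SylIn 2 T₂ (K ⊓ symOn Sᶜ)) :
    ∃ g ∈ K, O₂ ⊔ T₂ = (O₁ ⊔ T₁).map (MulAut.conj g).toMonoidHom := by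
  have := Fact.mk Nat.prime_three
  obtain ⟨a, ha, ea⟩ := hO₂.exists_conj_eq hO₁
  obtain ⟨b, hb, eb⟩ := hT₂.exists_conj_eq hT₁
  refine ⟨a * b, K.mul_mem ha.1 hb.1, ?_⟩
  have e : (MulAut.conj (a * b)).toMonoidHom =
      (MulAut.conj a).toMonoidHom.comp (MulAut.conj b).toMonoidHom := by
    ext1 x; simp [mul_assoc]
  rw [Subgroup.map_sup, e, ← Subgroup.map_map, ← Subgroup.map_map, eb,
    map_conj_eq_of_commute (H := O₁) fun x hx => (commute_of_symOn (hO₁.le hx).2 hb.2).symm, ea,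
    map_conj_eq_of_commute (H := T₂) fun x hx => commute_of_symOn ha.2 (hT₂.le hx).2]

omit [Fintype α] [DecidableEq α] in
theorem map_conj_symOn (S : Set α) (g : Perm α) :
    (symOn S).map (MulAut.conj g).toMonoidHom = symOn (g '' S) := by
  ext y
  constructor
  · rintro ⟨x, hx, rfl⟩
    refine mem_symOn.mpr fun z hz => ?_
    have : g⁻¹ z ∉ S := fun h => hz ⟨_, h, by simp⟩
    change g (x (g⁻¹ z)) = z
    rw [mem_symOn.mp hx _ this]; simp
  · intro hy
    refine ⟨g⁻¹ * y * g, mem_symOn.mpr fun z hz => ?_, by simp [mul_assoc]⟩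
    have : g z ∉ g '' S := fun ⟨w, hw, h⟩ => hz (g.injective h ▸ hw)
    simp [mem_symOn.mp hy _ this]

omit [DecidableEq α] in
theorem conj_of_image {K O₁ O₂ T₁ T₂ : Subgroup (Perm α)} [K.Normal] {S₁ S₂ : Set α} {g : Perm α}
    (hg : g ∈ K) (hS : g '' S₁ = S₂)
    (hO₁ : SylIn 3 O₁ (K ⊓ symOn S₁)) (hO₂ : SylIn 3 O₂ (K ⊓ symOn S₂))
    (hT₁ : SylIn 2 T₁ (K ⊓ symOn S₁ᶜ)) (hT₂ : SylIn 2 T₂ (K ⊓ symOn S₂ᶜ)) :
    ∃ g ∈ K, O₂ ⊔ T₂ = (O₁ ⊔ T₁).map (MulAut.conj g).toMonoidHom := by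
  have := Fact.mk Nat.prime_three
  have hinj : Function.Injective (MulAut.conj g).toMonoidHom := (MulAut.conj g).injective
  have hK : K.map (MulAut.conj g).toMonoidHom = K := Subgroup.Normal.map_conj_eq K g
  have h1 := hO₁.map_of_injective _ hinj
  have h2 := hT₁.map_of_injective _ hinj
  rw [Subgroup.map_inf _ _ _ hinj, hK, map_conj_symOn] at h1 h2
  rw [Set.image_compl_eq g.bijective] at h2
  rw [hS] at h1 h2
  obtain ⟨k, hk, e⟩ := conj_of_same h1 hO₂ h2 hT₂
  refine ⟨k * g, K.mul_mem hk hg, ?_⟩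
  rw [e, ← Subgroup.map_sup, Subgroup.map_map]
  congr 1

omit [DecidableEq α] in
theorem exists_image_eq {S₁ S₂ : Set α} (h : S₁.ncard = S₂.ncard) :
    ∃ g : Perm α, g '' S₁ = S₂ := by
  classical
  have e : S₁ ≃ S₂ := (Finite.card_eq.mp h).some
  refine ⟨e.extendSubtype, Set.eq_of_subset_of_ncard_le ?_ ?_⟩
  · rintro _ ⟨x, hx, rfl⟩
    exact e.extendSubtype_mem x hx
  · rw [Set.ncard_image_of_injective _ e.extendSubtype.injective, h]

theorem exists_image_eq_alt {S₁ S₂ : Set α} (h : S₁.ncard = S₂.ncard) (h2 : 2 ≤ S₁.ncard) :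
    ∃ g ∈ alternatingGroup α, g '' S₁ = S₂ := by
  obtain ⟨g, hg⟩ := exists_image_eq h
  by_cases hA : g ∈ alternatingGroup α
  · exact ⟨g, hA, hg⟩
  · obtain ⟨a, b, ha, hb, hab⟩ := (Set.one_lt_ncard_iff (Set.toFinite S₁)).mp h2
    refine ⟨g * swap a b, ?_, ?_⟩
    · rw [Perm.mem_alternatingGroup] at hA ⊢
      rw [map_mul, Perm.sign_swap hab, (Int.units_eq_one_or _).resolve_left hA]
      rfl
    · rw [Perm.coe_mul, Set.image_comp, (Equiv.swap_bijOn_self (by simp [ha, hb])).image_eq, hg]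

/-- The embedding of `P × C₃` in the symmetric group. -/
theorem exists_prod_hom {m n : ℕ} (h : n = m + 3) :
    ∃ f : Perm (Fin m) × Multiplicative (ZMod 3) →* Perm (Fin n), Function.Injective f ∧
      ∀ x, Perm.sign (f x) = Perm.sign x.1 := by
  have e : Fin m ⊕ Multiplicative (ZMod 3) ≃ Fin n := Fintype.equivOfCardEq (by simp [h])
  refine ⟨e.permCongrHom.toMonoidHom.comp ((Perm.sumCongrHom _ _).comp
    ((MonoidHom.id _).prodMap (toPermHom (Multiplicative (ZMod 3)) (Multiplicative (ZMod 3))))),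
    e.permCongrHom.injective.comp (Perm.sumCongrHom_injective.comp
      (Function.injective_id.prodMap MulAction.toPerm_injective)), fun x => ?_⟩
  have h1 : EvenAct (Multiplicative (ZMod 3)) (Multiplicative (ZMod 3)) :=
    evenAct_of_odd (by rw [Nat.card_congr Multiplicative.toAdd, Nat.card_zmod]; decide)
  change Perm.sign (e.permCongr (Perm.sumCongr x.1 (toPermHom _ _ x.2))) = _
  rw [Perm.sign_permCongr, Perm.sign_sumCongr, h1, mul_one]

theorem card_sylow_perm {n : ℕ} (P : Sylow 2 (Perm (Fin n))) : Nat.card P = v2 n := by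
  rw [P.card_eq_multiplicity, Nat.card_perm, Nat.card_eq_fintype_card, Fintype.card_fin]; rfl

theorem two_mul_card_sylow_alt {n : ℕ} (hn : 2 ≤ n) (P : Sylow 2 (alternatingGroup (Fin n))) :
    2 * Nat.card P = v2 n := by
  have : Nontrivial (Fin n) := Fin.nontrivial_iff_two_le.mpr hn
  have h := two_mul_nat_card_alternatingGroup (α := Fin n)
  rw [Nat.card_perm, Nat.card_eq_fintype_card (α := Fin n), Fintype.card_fin] at h
  rw [P.card_eq_multiplicity, v2, ← h, Nat.factorization_mul (by norm_num) Nat.card_pos.ne',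
    Finsupp.add_apply, Nat.prime_two.factorization_self, pow_add, pow_one]

end H61
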